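import Cfsg.Agent.CyclicFour.Fusion

/-!
The case where `A ⊓ T` has a cyclic subgroup of index two as given by `CyclicMax`.
-/

set_option autoImplicit false

open Subgroup

namespace CfsgLib.CyclicFour

open CfsgLib.RankOneFour

variable {G : Type*} [Group G] [Finite G]

/-- In a cyclic 2-group with involution `z = i * i`, an element whose square is not `1` generates a
subgroup containing `i`. -/
theorem four_mem_zpowers {g z i c : G} (hg : IsPGroup 2 (zpowers g)) (hzo : orderOf z = 2)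
    (hz : z ∈ zpowers g) (hi : i ∈ zpowers g) (hii : i * i = z) (hc : c ∈ zpowers g)
    (hc2 : c * c ≠ 1) : i ∈ zpowers c := by
  obtain ⟨j, hj⟩ := (IsPGroup.iff_orderOf.1 hg) ⟨c, hc⟩
  rw [← Subgroup.orderOf_coe] at hj
  have hj2 : 2 ≤ j := by
    by_contra hlt
    refine hc2 ?_
    rw [← sq, ← orderOf_dvd_iff_pow_eq_one, hj]
    exact (Nat.pow_dvd_pow 2 (show j ≤ 1 by omega)).trans (dvd_of_eq (pow_one 2))
  set d := c ^ 2 ^ (j - 2) with hd
  have hdc : d ∈ zpowers g := pow_mem hc _
  have hd4 : orderOf d = 4 := by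
    rw [hd, orderOf_pow_of_dvd (pow_ne_zero _ two_ne_zero) (hj ▸ Nat.pow_dvd_pow 2 (Nat.sub_le j 2)),
      hj, Nat.pow_div (Nat.sub_le j 2) two_pos, show j - (j - 2) = 2 by omega]
    norm_num
  obtain ⟨-, hdd, hdd1⟩ := pow_four_of_orderOf hd4
  have hdz : d * d = z := (eq_of_involution hz hzo (mul_mem hdc hdc) hdd).resolve_left hdd1
  have hcomm : Commute d i⁻¹ := by
    obtain ⟨p, hp⟩ := mem_zpowers_iff.1 hdc
    obtain ⟨q, hq⟩ := mem_zpowers_iff.1 hi
    rw [← hp, ← hq]
    exact (Commute.zpow_zpow_self g p q).inv_right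
  have hdi : d * i⁻¹ * (d * i⁻¹) = 1 := by
    rw [hcomm.symm.mul_mul_mul_comm, hdz, ← _root_.mul_inv_rev, hii, mul_inv_cancel]
  have hmem : d ∈ zpowers c := pow_mem (mem_zpowers c) _
  rcases eq_of_involution hz hzo (mul_mem hdc (inv_mem hi)) hdi with h1 | h1
  · exact mul_inv_eq_one.1 h1 ▸ hmem
  · have h2 : d = z * i := mul_inv_eq_iff_eq_mul.1 h1
    have hzz : z * z = 1 := by rw [← sq, ← hzo, pow_orderOf_eq_one]
    have : i = d⁻¹ := eq_inv_of_mul_eq_one_right (by rw [h2, mul_assoc, hii, hzz])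
    exact this ▸ inv_mem hmem

variable {A T : Subgroup G} {t y : G}

/-- The square of `y` is central in `T` as soon as some involution of `A ⊓ T` is. -/
theorem Setting.central_eq (h : Setting A T t y) {z : G} (hz : z ∈ A ⊓ T)
    (hzo : orderOf z = 2) (hzc : ∀ x ∈ T, x * z = z * x) : z = y * y := by
  obtain ⟨hyo, -, -⟩ := pow_four_of_orderOf h.y_four
  have hzz : z * z = 1 := by rw [← sq, ← hzo, pow_orderOf_eq_one]
  refine (eq_of_involution (mul_mem (mem_zpowers y) (mem_zpowers y)) hyo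
    (h.fixed z hz (hzc t h.t_mem)) hzz).resolve_left fun h1 => ?_
  rw [h1, orderOf_one] at hzo
  norm_num at hzo

theorem Setting.conj_fixed_eq (h : Setting A T t y) {f : G} (hf : f ∈ A ⊓ T) (hff : f * f = 1)
    (hf1 : f ≠ 1) (hft : t * f = f * t) : f = y * y :=
  (eq_of_involution (mul_mem (mem_zpowers y) (mem_zpowers y)) (pow_four_of_orderOf h.y_four).1
    (h.fixed f hf hft) hff).resolve_left hf1

/-- The case with a cyclic subgroup of index two. -/
theorem Setting.false_of_cyclicMax (h : Setting A T t y) {g z e : G}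
    (hC : CyclicMax T (A ⊓ T) g z) (he : e ∈ A ⊓ T) (hee : e * e = 1) (heg : e ∉ zpowers g) :
    False := by
  haveI : Fact (Nat.Prime 2) := ⟨Nat.prime_two⟩
  set S := A ⊓ T with hS
  have hCS : zpowers g ≤ S := zpowers_le.2 hC.g_mem
  have hzy : z = y * y := h.central_eq (hCS hC.z_mem) hC.z_ord hC.z_central
  have hzz : z * z = 1 := by rw [← sq, ← hC.z_ord, pow_orderOf_eq_one]
  have hz1 : z ≠ 1 := fun h1 => by have := hC.z_ord; rw [h1, orderOf_one] at this; norm_num at this
  have hei : e⁻¹ = e := inv_eq_of_mul_eq_one_right hee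
  have he1 : e ≠ 1 := fun h1 => heg (h1 ▸ one_mem _)
  have heT : e ∈ T := he.2
  have hgcomm : ∀ a ∈ zpowers g, ∀ b ∈ zpowers g, Commute a b := fun a ha b hb => by
    obtain ⟨i, rfl⟩ := mem_zpowers_iff.1 ha
    obtain ⟨j, rfl⟩ := mem_zpowers_iff.1 hb
    exact Commute.zpow_zpow_self g i j
  -- squares of `T` lie in `⟨g⟩`
  have hout : ∀ x ∈ T, ∀ s ∈ S, s ∉ zpowers g → x * s * x⁻¹ ∉ zpowers g := fun x hx s hs hsg h1 =>
    hsg (by simpa [mul_assoc] using hC.conj_mem x⁻¹ (inv_mem hx) _ h1)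
  have hsqT : ∀ x ∈ T, x * x ∈ zpowers g := by
    intro x hx
    rcases h.decomp hx with hxS | ⟨s, hs, rfl⟩
    · by_cases hxg : x ∈ zpowers g
      · exact mul_mem hxg hxg
      · exact hC.prod_mem x hxS x hxS hxg hxg
    · have e1 : s * t * (s * t) = s * (t * s * t⁻¹) := by rw [h.t_inv]; group
      rw [e1]
      by_cases hsg : s ∈ zpowers g
      · exact mul_mem hsg (hC.conj_mem t h.t_mem s hsg)
      · exact hC.prod_mem s hs _ (h.conj_mem h.t_mem hs) hsg (hout t h.t_mem s hs hsg)
  -- an element `i` of order four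
  obtain ⟨i, hiC, hii⟩ : ∃ i ∈ zpowers g, i * i = z := by
    obtain ⟨m, hm⟩ := IsPGroup.iff_card.1 hC.two_power
    rw [Nat.card_zpowers] at hm
    have hm2 : 2 ≤ m := by
      by_contra hlt
      refine hC.g_sq ?_
      rw [← sq, ← orderOf_dvd_iff_pow_eq_one, hm]
      exact (Nat.pow_dvd_pow 2 (show m ≤ 1 by omega)).trans (dvd_of_eq (pow_one 2))
    refine ⟨g ^ 2 ^ (m - 2), pow_mem (mem_zpowers g) _, ?_⟩
    refine (eq_of_involution hC.z_mem hC.z_ord
      (mul_mem (pow_mem (mem_zpowers g) _) (pow_mem (mem_zpowers g) _)) ?_).resolve_left ?_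
    · rw [← pow_add, ← pow_add, ← pow_orderOf_eq_one g, hm]
      congr 1
      rw [← two_mul, ← two_mul, ← mul_assoc, show (2 : ℕ) * 2 = 2 ^ 2 by norm_num, ← pow_add]
      congr 1; omega
    · rw [← pow_add, ← two_mul, ← pow_succ']
      exact pow_ne_one_of_lt_orderOf (by positivity) (by
        rw [hm]; exact Nat.pow_lt_pow_right one_lt_two (by omega))
  have hi1 : i ≠ 1 := fun h1 => hz1 (by rw [← hii, h1, one_mul])
  have hiz : i ≠ z := fun h1 => hz1 (by rw [← hii, h1, hzz])
  have hiS : i ∈ S := hCS hiC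
  have hfour : ∀ d ∈ zpowers g, d * d = z → d = i ∨ d = i⁻¹ := by
    intro d hd hdd
    have h1 : d * i⁻¹ * (d * i⁻¹) = 1 := by
      rw [(hgcomm _ (inv_mem hiC) _ hd).mul_mul_mul_comm, hdd, ← _root_.mul_inv_rev, hii,
        mul_inv_cancel]
    rcases eq_of_involution hC.z_mem hC.z_ord (mul_mem hd (inv_mem hiC)) h1 with h2 | h2
    · exact Or.inl (mul_inv_eq_one.1 h2)
    · refine Or.inr (eq_inv_of_mul_eq_one_left ?_)
      rw [mul_inv_eq_iff_eq_mul.1 h2, mul_assoc, hii, hzz]
  have hiconj : ∀ x ∈ T, x * i * x⁻¹ = i ∨ x * i * x⁻¹ = i⁻¹ := fun x hx => by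
    refine hfour _ (hC.conj_mem x hx i hiC) ?_
    rw [conj_mul, hii, hC.z_central x hx, mul_inv_cancel_right]
  have heinv : e * i * e⁻¹ = i⁻¹ := (hiconj e heT).resolve_left fun h1 =>
    (hC.fixed e he heg i hiC (mul_inv_eq_iff_eq_mul.1 h1).symm).elim hi1 hiz
  -- an involution outside `A` commuting with `i` and with no other involution of `S` but `z`
  obtain ⟨u, huT, huu, hui, huf⟩ : ∃ u ∈ T, u * u = 1 ∧ u * i = i * u ∧
      ∀ f ∈ S, f * f = 1 → f ≠ 1 → f ≠ z → u * f ≠ f * u := by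
    by_cases hti : t * i = i * t
    · exact ⟨t, h.t_mem, h.t_sq, hti, fun f hf hff hf1 hfz hft =>
        hfz ((h.conj_fixed_eq hf hff hf1 hft).trans hzy.symm)⟩
    have htinv : t * i * t⁻¹ = i⁻¹ := (hiconj t h.t_mem).resolve_left fun h1 =>
      hti (mul_inv_eq_iff_eq_mul.1 h1)
    have hyg : y ∉ zpowers g := fun hy => hti (by
      rcases hfour y hy hzy.symm with h1 | h1
      · rw [← h1]; exact h.y_comm
      · rw [show i = y⁻¹ by rw [h1, inv_inv]]
        exact (show Commute t y from h.y_comm).inv_right.eq)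
    set φ : G → G := fun d => e * d * e⁻¹ * d with hφ
    have hφC : ∀ d ∈ zpowers g, φ d = 1 ∨ φ d = z := by
      intro d hd
      refine hC.fixed e he heg _ (mul_mem (hC.conj_mem e heT d hd) hd) ?_
      have h1 := (hgcomm _ (hC.conj_mem e heT d hd) _ hd).eq
      calc φ d * e = (d * (e * d * e⁻¹)) * e := by rw [hφ]; simp only [h1]
        _ = d * e * d * (e⁻¹ * e) := by group
        _ = e⁻¹ * e * (d * e * d) := by rw [inv_mul_cancel, mul_one, one_mul]
        _ = e * e * (d * e * d) := by rw [hei]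
        _ = e * (e * d * e⁻¹ * d) := by rw [hei]; group
        _ = e * φ d := by rw [hφ]
    have hφpow : ∀ j : ℤ, φ (g ^ j) = φ g ^ j := by
      intro j
      show e * g ^ j * e⁻¹ * g ^ j = (e * g * e⁻¹ * g) ^ j
      rw [(hgcomm _ (hC.conj_mem e heT g (mem_zpowers g)) _ (mem_zpowers g)).mul_zpow, conj_zpow]
    obtain ⟨jy, hjy⟩ := mem_zpowers_iff.1 (hC.prod_mem e he y h.y_mem heg hyg)
    have hysq : φ (g ^ jy) = z := by
      rw [hjy, hzy, hφ]
      calc e * (e * y) * e⁻¹ * (e * y) = (e * e) * y * (e⁻¹ * e) * y := by group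
        _ = y * y := by rw [hee, inv_mul_cancel]; group
    have hφg : φ g = z := (hφC g (mem_zpowers g)).resolve_left fun h1 => hz1 (by
      rw [← hysq, hφpow, h1, one_zpow])
    have hzodd : ∀ j : ℤ, z ^ (2 * j + 1) = z := fun j => by
      rw [zpow_add, zpow_mul, zpow_two, hzz, one_zpow, one_mul, zpow_one]
    have hzeven : ∀ j : ℤ, z ^ (2 * j) = 1 := fun j => by
      rw [zpow_mul, zpow_two, hzz, one_zpow]
    -- the subgroup `M`
    set D := zpowers (g * g) with hD
    have hDC : D ≤ zpowers g := zpowers_le.2 (mul_mem (mem_zpowers g) (mem_zpowers g))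
    have hDpow : ∀ j : ℤ, g ^ (2 * j) ∈ D := fun j => by
      rw [zpow_mul, zpow_two]; exact zpow_mem (mem_zpowers _) j
    have hDodd : ∀ j : ℤ, g ^ (2 * j + 1) ∉ D := by
      intro j hj
      obtain ⟨l, hl⟩ := mem_zpowers_iff.1 hj
      have h1 : g ^ (2 * (j - l) + 1) = 1 := by
        rw [show 2 * (j - l) + 1 = (2 * j + 1) + -(2 * l) by ring, zpow_add, ← hl, zpow_neg,
          zpow_mul, zpow_two, mul_inv_cancel]
      have h2 := mem_zpowers_odd hC.two_power (j - l)
      rw [h1, zpowers_one_eq_bot, mem_bot] at h2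
      exact hC.g_sq (by rw [h2, one_mul])
    have hDe : ∀ d ∈ D, e * d * e⁻¹ ∈ D := by
      intro d hd
      obtain ⟨l, rfl⟩ := mem_zpowers_iff.1 hd
      obtain ⟨q, hq⟩ := mem_zpowers_iff.1 (hC.conj_mem e heT g (mem_zpowers g))
      rw [← conj_zpow, ← conj_mul, ← hq, ← zpow_add, ← zpow_mul,
        show (q + q) * l = 2 * (q * l) by ring]
      exact hDpow _
    let M : Subgroup G :=
      { carrier := {x | x ∈ D ∨ e * x ∈ D}
        one_mem' := Or.inl (one_mem _)
        mul_mem' := by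
          intro a b ha hb
          rcases ha with ha | ha <;> rcases hb with hb | hb
          · exact Or.inl (mul_mem ha hb)
          · refine Or.inr ?_
            rw [show e * (a * b) = (e * a * e⁻¹) * (e * b) by group]
            exact mul_mem (hDe a ha) hb
          · exact Or.inr (by rw [← mul_assoc]; exact mul_mem ha hb)
          · refine Or.inl ?_
            have h1 : a * b = e * (e * a) * e⁻¹ * (e * b) := by
              calc a * b = (e * e) * a * (e⁻¹ * e) * b := by rw [hee, inv_mul_cancel]; group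
                _ = e * (e * a) * e⁻¹ * (e * b) := by group
            rw [h1]; exact mul_mem (hDe _ ha) hb
        inv_mem' := by
          intro a ha
          rcases ha with ha | ha
          · exact Or.inl (inv_mem ha)
          · refine Or.inr ?_
            have h1 : e * a⁻¹ = e * (e * a)⁻¹ * e⁻¹ * (e * e) := by group
            rw [h1, hee, mul_one]; exact hDe _ (inv_mem ha) }
    have hMmem : ∀ x, x ∈ M ↔ x ∈ D ∨ e * x ∈ D := fun x => Iff.rfl
    have hnotC : ∀ b ∈ zpowers g, e * b ∉ zpowers g := fun b hb h1 => heg (by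
      simpa using mul_mem h1 (inv_mem hb))
    -- every element of `S` is `g ^ j` or `e * g ^ j`
    have hform : ∀ b ∈ S, ∃ j : ℤ, b = g ^ j ∧ (b ∈ M ↔ g ^ j ∈ D) ∨
        b = e * g ^ j ∧ (b ∈ M ↔ g ^ j ∈ D) := by
      intro b hb
      by_cases hbg : b ∈ zpowers g
      · obtain ⟨j, rfl⟩ := mem_zpowers_iff.1 hbg
        refine ⟨j, Or.inl ⟨rfl, ?_⟩⟩
        rw [hMmem, or_iff_left fun h1 => hnotC _ hbg (hDC h1)]
      · obtain ⟨j, hj⟩ := mem_zpowers_iff.1 (hC.prod_mem e he b hb heg hbg)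
        have hb' : b = e * g ^ j := by rw [hj, ← mul_assoc, hee, one_mul]
        refine ⟨j, Or.inr ⟨hb', ?_⟩⟩
        rw [hMmem, or_iff_right fun h1 => hbg (hDC h1), hj]
    obtain ⟨b, hb, hbM⟩ := h.exists_conj_mem (M := M) (s₀ := g)
      (fun x hx => by
        rcases hx with hx | hx
        · exact hCS (hDC hx)
        · have h1 := mul_mem he (hCS (hDC hx))
          rwa [← mul_assoc, hee, one_mul] at h1) hC.g_mem
      (fun b hb => by
        obtain ⟨j, ⟨hb', hiff⟩ | ⟨hb', hiff⟩⟩ := hform b hb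
        · have hiff' : b * g ∈ M ↔ g ^ (j + 1) ∈ D := by
            rw [hb', ← zpow_add_one, hMmem,
              or_iff_left fun h1 => hnotC _ (zpow_mem (mem_zpowers g) _) (hDC h1)]
          rcases Int.even_or_odd' j with ⟨l, rfl | rfl⟩
          · exact Or.inr ⟨hiff.2 (hDpow l), fun h1 => hDodd l (hiff'.1 h1)⟩
          · exact Or.inl ⟨hiff'.2 (by rw [show 2 * l + 1 + 1 = 2 * (l + 1) by ring]; exact hDpow _),
              fun h1 => hDodd l (hiff.1 h1)⟩
        · have hiff' : b * g ∈ M ↔ g ^ (j + 1) ∈ D := by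
            rw [hb', mul_assoc, ← zpow_add_one, hMmem,
              or_iff_right fun h1 => hnotC _ (zpow_mem (mem_zpowers g) _) (hDC h1),
              ← mul_assoc, hee, one_mul]
          rcases Int.even_or_odd' j with ⟨l, rfl | rfl⟩
          · exact Or.inr ⟨hiff.2 (hDpow l), fun h1 => hDodd l (hiff'.1 h1)⟩
          · exact Or.inl ⟨hiff'.2 (by rw [show 2 * l + 1 + 1 = 2 * (l + 1) by ring]; exact hDpow _),
              fun h1 => hDodd l (hiff.1 h1)⟩)
      (n := 2) one_le_two
      (fun s hs hsM => by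
        have hss : s * s ≠ 1 := by
          obtain ⟨j, ⟨hs', hiff⟩ | ⟨hs', hiff⟩⟩ := hform s hs
          · rcases Int.even_or_odd' j with ⟨l, rfl | rfl⟩
            · exact absurd (hiff.2 (hDpow l)) hsM
            · intro h1
              obtain ⟨q, hq⟩ := mem_zpowers_iff.1 (mem_zpowers_odd hC.two_power l)
              refine hC.g_sq ?_
              rw [hs'] at h1
              rw [← hq, ← (Commute.refl (g ^ (2 * l + 1))).mul_zpow, h1, one_zpow]
          · rcases Int.even_or_odd' j with ⟨l, rfl | rfl⟩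
            · exact absurd (hiff.2 (hDpow l)) hsM
            · intro h1
              refine hz1 ?_
              have h2 : s * s = φ (g ^ (2 * l + 1)) := by rw [hs', hφ, hei]; group
              rw [← hzodd l, ← hφg, ← hφpow, ← h2, h1]
        show 2 ^ (2 - 1) < orderOf s
        by_contra hle
        have h0 := orderOf_pos s
        refine hss ?_
        rcases (show orderOf s = 1 ∨ orderOf s = 2 by omega) with h1 | h1
        · rw [orderOf_eq_one_iff.1 h1, one_mul]
        · rw [← sq, ← h1, pow_orderOf_eq_one])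
      h.y_mem.1 (x := y) (by rw [h.y_four]; norm_num)
    have hbsq : b * y * b⁻¹ * (b * y * b⁻¹) = b * z * b⁻¹ := by rw [conj_mul, hzy]
    have hbC : b * y * b⁻¹ ∈ zpowers g := by
      rcases hbM with h1 | h1
      · exact hDC h1
      · exfalso
        obtain ⟨l, hl⟩ := mem_zpowers_iff.1 h1
        have hb' : b * y * b⁻¹ = e * g ^ (2 * l) := by
          rw [zpow_mul, zpow_two, hl, ← mul_assoc, hee, one_mul]
        refine hz1 (conj_eq_one_iff.1 (hbsq.symm.trans ?_))
        have h2 : b * y * b⁻¹ * (b * y * b⁻¹) = φ (g ^ (2 * l)) := by rw [hb', hφ, hei]; group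
        rw [h2, hφpow, hφg, hzeven]
    have hbz : b * z * b⁻¹ = z := (eq_of_involution hC.z_mem hC.z_ord
      (hbsq ▸ mul_mem hbC hbC) (by rw [conj_mul, hzz, mul_one, mul_inv_cancel])).resolve_left
        fun h1 => hz1 (conj_eq_one_iff.1 h1)
    have hbi : b * t * b⁻¹ * i = i * (b * t * b⁻¹) := by
      have h1 : Commute (b * t * b⁻¹) (b * y * b⁻¹) :=
        (show Commute t y from h.y_comm).map (MulAut.conj b).toMonoidHom
      rcases hfour _ hbC (by rw [hbsq, hbz]) with h2 | h2 <;> rw [h2] at h1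
      · exact h1.eq
      · exact (inv_inv i ▸ h1.inv_right).eq
    -- `C_T(i)` has the largest possible order in `C(i)`
    set K := (A ⊔ zpowers t) ⊓ centralizer ({i} : Set G) with hK
    set Ti := T ⊓ centralizer ({i} : Set G) with hTi
    have hTiK : Ti ≤ K := inf_le_inf_right _ h.le_sup
    have hidx : Ti.relIndex T = 2 := by
      show (Ti.subgroupOf T).index = 2
      rw [index_eq_two_iff]
      refine ⟨⟨t, h.t_mem⟩, fun x => ?_⟩
      simp only [mem_subgroupOf, Subgroup.coe_mul]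
      have hmem : ∀ q ∈ T, (q ∈ Ti ↔ q * i * q⁻¹ = i) := fun q hq =>
        ⟨fun h1 => mul_inv_eq_iff_eq_mul.2 (mem_centralizer_singleton_iff.1 h1.2),
          fun h1 => ⟨hq, mem_centralizer_singleton_iff.2 (mul_inv_eq_iff_eq_mul.1 h1)⟩⟩
      have hii' : i⁻¹ ≠ i := fun h1 => hz1 (by
        rw [← hii]; nth_rewrite 1 [← h1]; rw [inv_mul_cancel])
      have hconj : (x : G) * t * i * ((x : G) * t)⁻¹ = (↑x * i * (↑x)⁻¹)⁻¹ := by
        calc (x : G) * t * i * ((x : G) * t)⁻¹ = ↑x * (t * i * t⁻¹) * (↑x)⁻¹ := by group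
          _ = _ := by rw [htinv]; group
      rcases hiconj x x.2 with h1 | h1
      · refine Or.inr ⟨(hmem _ x.2).2 h1, fun h2 => hii' ?_⟩
        have := (hmem _ (mul_mem x.2 h.t_mem)).1 h2
        rw [hconj, h1] at this
        exact this
      · refine Or.inl ⟨(hmem _ (mul_mem x.2 h.t_mem)).2 (by rw [hconj, h1, inv_inv]), fun h2 => hii' ?_⟩
        have := (hmem _ x.2).1 h2
        rw [h1] at this
        exact this
    have hmaxi : ∀ P : Subgroup G, IsPGroup 2 P → P ≤ K → Nat.card P ≤ Nat.card Ti := by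
      intro P hP hPK
      by_contra hgt
      push Not at hgt
      set P' := P ⊔ zpowers i with hP'
      have hPi : P ≤ normalizer (zpowers i : Set G) := fun p hp => by
        refine centralizer_le_normalizer _ ?_
        rw [mem_centralizer_iff]
        intro q hq
        obtain ⟨l, rfl⟩ := mem_zpowers_iff.1 hq
        exact ((show Commute p i from mem_centralizer_singleton_iff.1 (hPK hp).2).zpow_right l).eq.symm
      have hiK : i ∈ K := ⟨mem_sup_left hiS.1, mem_centralizer_singleton_iff.2 rfl⟩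
      have hP'p : IsPGroup 2 P' :=
        hP.to_sup_of_normal_right' (h.two_group.to_le (zpowers_le.2 hiS.2)) hPi
      have hP'K : P' ≤ K := sup_le hPK (zpowers_le.2 hiK)
      obtain ⟨k, hk, hkP⟩ := exists_conj_into h.two_group h.le_sup h.max hP'p
        (hP'K.trans inf_le_left)
      have hle : P'.map (MulAut.conj k).toMonoidHom ≤ T := by
        rintro _ ⟨p, hp, rfl⟩; exact hkP p hp
      have hTcard : Nat.card T = 2 * Nat.card Ti := by
        rw [← hidx, ← card_mul_index (Ti.subgroupOf T), mul_comm,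
          Nat.card_congr (subgroupOfEquivOfLe (inf_le_left : Ti ≤ T)).toEquiv]
        rfl
      obtain ⟨p1, hp1⟩ := IsPGroup.iff_card.1 (h.two_group.to_le (inf_le_left : Ti ≤ T))
      obtain ⟨p2, hp2⟩ := IsPGroup.iff_card.1 hP
      have hlt : p1 < p2 := (Nat.pow_lt_pow_iff_right one_lt_two).1 (by rw [← hp1, ← hp2]; exact hgt)
      have heq : P'.map (MulAut.conj k).toMonoidHom = T := by
        refine eq_of_le_of_card_ge hle ?_
        rw [card_map_of_injective (f := (MulAut.conj k).toMonoidHom) (MulAut.conj k).injective]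
        refine le_trans ?_ (card_le_of_le (le_sup_left : P ≤ P'))
        rw [hTcard, hp1, hp2, ← pow_succ']
        exact Nat.pow_le_pow_right two_pos hlt
      have hkS : k * i * k⁻¹ ∈ S :=
        ⟨((mem_normalizer_iff.1 (h.le_normalizer hk)) i).1 hiS.1,
          hkP i (mem_sup_right (mem_zpowers i))⟩
      have hkc : ∀ x ∈ T, x * (k * i * k⁻¹) = k * i * k⁻¹ * x := fun x hx => by
        rw [← heq] at hx
        obtain ⟨p, hp, rfl⟩ := hx
        show k * p * k⁻¹ * (k * i * k⁻¹) = k * i * k⁻¹ * (k * p * k⁻¹)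
        rw [conj_mul, conj_mul, mem_centralizer_singleton_iff.1 (hP'K hp).2]
      by_cases hkC : k * i * k⁻¹ ∈ zpowers g
      · have h2 : k * z * k⁻¹ = z := by
          refine (eq_of_involution hC.z_mem hC.z_ord ?_ ?_).resolve_left fun h1 =>
            hz1 (conj_eq_one_iff.1 h1)
          · rw [← hii, ← conj_mul]; exact mul_mem hkC hkC
          · rw [conj_mul, hzz, mul_one, mul_inv_cancel]
        rcases hfour _ hkC (by rw [conj_mul, hii, h2]) with h3 | h3
        · exact hti (h3 ▸ hkc t h.t_mem)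
        · exact hti (inv_inv i ▸ (h3 ▸ (show Commute t (k * i * k⁻¹) from hkc t h.t_mem)).inv_right.eq)
      · exact (hC.fixed _ hkS hkC i hiC (hkc i hiS.2)).elim hi1 hiz
    have hbH : b ∈ A ⊔ zpowers t := mem_sup_left hb
    have hbt : b * t * b⁻¹ ∈ K := ⟨(A ⊔ zpowers t).mul_mem ((A ⊔ zpowers t).mul_mem hbH
      (h.le_sup h.t_mem)) ((A ⊔ zpowers t).inv_mem hbH), mem_centralizer_singleton_iff.2 hbi⟩
    obtain ⟨k, hk, hkP⟩ := exists_conj_into (h.two_group.to_le (inf_le_left : Ti ≤ T)) hTiK hmaxi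
      (isPGroup_zpowers h.two_group h.t_mem b) (zpowers_le.2 hbt)
    set u := k * (b * t * b⁻¹) * k⁻¹ with hu
    have huTi : u ∈ Ti := hkP _ (mem_zpowers _)
    refine ⟨u, huTi.1, by rw [hu, conj_mul, conj_mul, h.t_sq]; group,
      mem_centralizer_singleton_iff.1 huTi.2, fun f hf hff hf1 hfz huf => ?_⟩
    have hkbH : k * b ∈ A ⊔ zpowers t := mul_mem hk.1 hbH
    set c := (k * b)⁻¹ with hc
    have hcA : c ∈ normalizer (A : Set G) := h.le_normalizer (inv_mem hkbH)
    have hcu : c * u * c⁻¹ = t := by rw [hu, hc]; group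
    have hpull : ∀ q ∈ A, q * q = 1 → q ≠ 1 → u * q = q * u →
        c * q * c⁻¹ ∈ A ∧ c * q * c⁻¹ * (c * q * c⁻¹) = 1 ∧ c * q * c⁻¹ ≠ 1 ∧
          t * (c * q * c⁻¹) = c * q * c⁻¹ * t := fun q hq hqq hq1 huq =>
      ⟨((mem_normalizer_iff.1 hcA) q).1 hq, by rw [conj_mul, hqq, mul_one, mul_inv_cancel],
        fun h1 => hq1 (conj_eq_one_iff.1 h1), by rw [← hcu, conj_mul, conj_mul, huq]⟩
    obtain ⟨a1, a2, a3, a4⟩ := hpull f hf.1 hff hf1 huf
    obtain ⟨b1, b2, b3, b4⟩ := hpull z (hCS hC.z_mem).1 hzz hz1 (hC.z_central u huTi.1)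
    refine hfz ((MulAut.conj c).injective (h.unique _ a1 _ b1 a2 b2 a3 b3 ?_ a4 b4))
    show c * f * c⁻¹ * (c * z * c⁻¹) = c * z * c⁻¹ * (c * f * c⁻¹)
    rw [conj_mul, conj_mul, hC.z_central f hf.2]
  -- conclusion
  have huinv : u⁻¹ = u := inv_eq_of_mul_eq_one_right huu
  set c := u * e * u⁻¹ * e with hc
  have hcC : c ∈ zpowers g := hC.prod_mem _ (h.conj_mem huT he) e he (hout u huT e he heg) heg
  have hucinv : u * c * u⁻¹ = c⁻¹ := by
    rw [hc, huinv, _root_.mul_inv_rev, _root_.mul_inv_rev, _root_.mul_inv_rev, huinv, hei]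
    calc u * (u * e * u * e) * u = (u * u) * e * u * e * u := by group
      _ = e * (u * (e * u)) := by rw [huu]; group
  have hc2 : c * c = 1 := by
    by_contra hc2
    obtain ⟨l, hl⟩ := mem_zpowers_iff.1 (four_mem_zpowers hC.two_power hC.z_ord hC.z_mem hiC hii hcC hc2)
    have h1 : u * i * u⁻¹ = i⁻¹ := by rw [← hl, ← conj_zpow, hucinv, inv_zpow]
    rw [hui, mul_inv_cancel_right] at h1
    exact hz1 (by rw [← hii]; exact mul_eq_one_iff_eq_inv.2 h1)
  have hcz : c = z := (eq_of_involution hC.z_mem hC.z_ord hcC hc2).resolve_left fun h1 => by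
    refine huf e he hee he1 (fun h2 => heg (h2 ▸ hC.z_mem)) ?_
    have h2 : u * e * u⁻¹ = e := by
      rw [hc] at h1
      rw [eq_inv_of_mul_eq_one_left h1, hei]
    exact mul_inv_eq_iff_eq_mul.1 h2
  have hue : u * e = z * e * u := by
    rw [← hcz, hc]
    calc u * e = u * e * (u⁻¹ * (e * e)) * u := by rw [hee, mul_one, inv_mul_cancel_right]
      _ = _ := by group
  have hziinv : i * z = i⁻¹ := eq_inv_of_mul_eq_one_left (by
    rw [mul_assoc, hC.z_central i hiS.2 |>.symm, ← mul_assoc, hii, hzz])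
  refine h.false_of_cyclic hC.g_mem hC.z_mem hC.z_ord hC.z_central hC.prod_mem hsqT he hee heg
    (w := i * u) (mul_mem hiS.2 huT) ?_ ?_
  · calc i * u * e = i * (z * e * u) := by rw [mul_assoc, hue]
      _ = i⁻¹ * (e * u) := by rw [← hziinv]; group
      _ = (e * i * e⁻¹) * (e * u) := by rw [heinv]
      _ = e * (i * u) := by group
  · calc i * u * (i * u) = i * i * (u * u) := by
          rw [show i * u * (i * u) = i * (u * i) * u by group, hui]; group
      _ = z := by rw [huu, mul_one, hii]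

end CfsgLib.CyclicFour
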