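import Cfsg.Agent.Inv53.SmallCentralizer
import Cfsg.Agent.RankOneFour.Structure
import Mathlib.GroupTheory.SpecificGroups.Dihedral

/-!
A 2-group with an involution `τ` whose centralizer is a four-group `⟨τ, f⟩`: a cyclic subgroup of
index two not containing `τ`.
-/

set_option autoImplicit false

open Subgroup

namespace CfsgLib.CyclicFour

theorem exists_cyclic_model {Q : Type*} [Group Q] [Finite Q] (hQ : IsPGroup 2 Q) {τ f : Q}
    (hτ : orderOf τ = 2) (hf : orderOf f = 2) (hne : τ ≠ f) (hc : τ * f = f * τ)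
    (hC : ∀ q, τ * q = q * τ → q = 1 ∨ q = τ ∨ q = f ∨ q = τ * f) :
    ∃ (r : Q) (m : ℕ), 1 ≤ m ∧ orderOf r = 2 ^ m ∧ τ ∉ zpowers r ∧
      (∀ q, q ∈ zpowers r ∨ τ * q ∈ zpowers r) ∧ τ * r * τ⁻¹ ∈ zpowers r ∧
      (r ^ (2 ^ (m - 1)) = f ∨ 2 ≤ m ∧ r ^ (2 ^ (m - 1)) = τ * f) := by
  classical
  haveI : Fact (Nat.Prime 2) := ⟨Nat.prime_two⟩
  have hττ : τ * τ = 1 := by rw [← sq, ← hτ, pow_orderOf_eq_one]
  have hff : f * f = 1 := by rw [← sq, ← hf, pow_orderOf_eq_one]
  have hτ1 : τ ≠ 1 := fun h => by rw [h, orderOf_one] at hτ; norm_num at hτ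
  have hf1 : f ≠ 1 := fun h => by rw [h, orderOf_one] at hf; norm_num at hf
  have h3 : τ * f ≠ τ := fun h => hf1 (by simpa using h)
  have h4 : τ * f ≠ f := fun h => hτ1 (by simpa using h)
  have h5 : τ * f ≠ 1 := fun h => hne (by
    rw [eq_inv_of_mul_eq_one_left h, inv_eq_of_mul_eq_one_right hff])
  have hset : (centralizer ({τ} : Set Q) : Set Q) = ({1, τ, f, τ * f} : Set Q) := by
    ext q
    simp only [SetLike.mem_coe, mem_centralizer_singleton_iff, Set.mem_insert_iff,
      Set.mem_singleton_iff]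
    refine ⟨fun h => hC q h.symm, ?_⟩
    rintro (rfl | rfl | rfl | rfl)
    · rw [one_mul, mul_one]
    · rfl
    · exact hc.symm
    · exact ((Commute.refl τ).mul_right hc).eq.symm
  have hcard : Nat.card (centralizer ({τ} : Set Q)) = 4 := by
    rw [← SetLike.coe_sort_coe, Nat.card_coe_set_eq, hset]
    rw [Set.ncard_insert_of_notMem, Set.ncard_insert_of_notMem, Set.ncard_pair]
    · exact h4.symm
    · simp only [Set.mem_insert_iff, Set.mem_singleton_iff]
      exact fun h => h.elim hne fun h' => h3 h'.symm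
    · simp only [Set.mem_insert_iff, Set.mem_singleton_iff]
      exact fun h => h.elim (fun h' => hτ1 h'.symm)
        fun h' => h'.elim (fun h'' => hf1 h''.symm) fun h'' => h5 h''.symm
  by_cases hQ4 : Nat.card Q = 4
  · have htop : centralizer ({τ} : Set Q) = ⊤ := eq_top_of_card_eq _ (hcard.trans hQ4.symm)
    refine ⟨f, 1, le_rfl, by rw [pow_one, hf], fun h => ?_, fun q => ?_, ?_, Or.inl ?_⟩
    · rcases CfsgLib.RankOneFour.eq_of_involution (mem_zpowers f) hf h hττ with h' | h'
      · exact hτ1 h'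
      · exact hne h'
    · have hq : q ∈ centralizer ({τ} : Set Q) := htop ▸ mem_top q
      rcases hC q (mem_centralizer_singleton_iff.1 hq).symm with rfl | rfl | rfl | rfl
      · exact Or.inl (one_mem _)
      · exact Or.inr (hττ.symm ▸ one_mem _)
      · exact Or.inl (mem_zpowers _)
      · exact Or.inr (by rw [← mul_assoc, hττ, one_mul]; exact mem_zpowers _)
    · rw [hc, mul_inv_cancel_right]; exact mem_zpowers f
    · rw [Nat.sub_self, pow_zero, pow_one]
  obtain ⟨r, hidx⟩ : ∃ r : Q, (zpowers r).index = 2 := by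
    rcases CfsgLib.Inv53.dihedral_quasi_or_four hQ τ hτ hcard with ⟨n, ⟨e⟩⟩ | hsd | h
    · refine ⟨e.symm (DihedralGroup.r 1), ?_⟩
      have h1 := card_mul_index (zpowers (e.symm (DihedralGroup.r 1)))
      have hn0 : n ≠ 0 := by
        rintro rfl
        haveI : Finite (DihedralGroup 0) := Finite.of_equiv Q e.toEquiv
        exact not_finite (DihedralGroup 0)
      rw [Nat.card_zpowers, e.symm.orderOf_eq, DihedralGroup.orderOf_r_one,
        Nat.card_congr e.toEquiv, DihedralGroup.nat_card] at h1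
      exact Nat.eq_of_mul_eq_mul_left (Nat.pos_of_ne_zero hn0) (h1.trans (mul_comm _ _))
    · obtain ⟨n, -, hcardS, x, -, hx, -, -⟩ := hsd
      refine ⟨x, ?_⟩
      have h1 := card_mul_index (zpowers x)
      rw [Nat.card_zpowers, hx, hcardS, pow_succ] at h1
      exact Nat.eq_of_mul_eq_mul_left (by positivity) h1
    · exact absurd h hQ4
  obtain ⟨m, hm⟩ := (IsPGroup.iff_orderOf.1 hQ) r
  have hn : (zpowers r).Normal := normal_of_index_eq_two hidx
  have hQcard : Nat.card Q = 2 ^ m * 2 := by rw [← card_mul_index (zpowers r), hidx, Nat.card_zpowers, hm]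
  have hm1 : 1 ≤ m := by
    by_contra hm0
    rw [show m = 0 by omega, pow_zero, one_mul] at hQcard
    have := card_le_card_group (centralizer ({τ} : Set Q))
    omega
  have hm2 : 2 ≤ m := by
    by_contra hm2
    refine hQ4 ?_
    rw [hQcard, show m = 1 by omega]
    norm_num
  have hρo : orderOf (r ^ 2 ^ (m - 1)) = 2 := by
    rw [orderOf_pow_of_dvd (pow_ne_zero _ two_ne_zero) (hm ▸ Nat.pow_dvd_pow 2 (Nat.sub_le m 1)),
      hm, Nat.pow_div (Nat.sub_le m 1) two_pos, show m - (m - 1) = 1 by omega, pow_one]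
  have hρr : r ^ 2 ^ (m - 1) ∈ zpowers r := pow_mem (mem_zpowers r) _
  have hcov : ∀ q w : Q, w ∉ zpowers r → q ∈ zpowers r ∨ w * q ∈ zpowers r := fun q w hw => by
    by_cases hq : q ∈ zpowers r
    · exact Or.inl hq
    · exact Or.inr ((mul_mem_iff_of_index_two hidx).2 (iff_of_false hw hq))
  have hτr : τ ∉ zpowers r := by
    intro hτr
    have hfr : f ∉ zpowers r := fun h => by
      rcases CfsgLib.RankOneFour.eq_of_involution hτr hτ h hff with h' | h'
      · exact hf1 h'
      · exact hne h'.symm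
    have hcomm : ∀ c ∈ zpowers r, τ * c = c * τ := fun c hcr => by
      obtain ⟨i, hi⟩ := mem_zpowers_iff.1 hτr
      obtain ⟨j, hj⟩ := mem_zpowers_iff.1 hcr
      rw [← hi, ← hj]
      exact (Commute.zpow_zpow_self r i j).eq
    have htop : centralizer ({τ} : Set Q) = ⊤ := eq_top_iff.2 fun q _ => by
      rw [mem_centralizer_singleton_iff]
      rcases hcov q f hfr with hq | hq
      · exact (hcomm q hq).symm
      · have h1 : q = f * (f * q) := by rw [← mul_assoc, hff, one_mul]
        rw [h1]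
        exact ((show Commute τ f from hc).mul_right (hcomm _ hq)).eq.symm
    exact hQ4 ((card_top (G := Q)).symm.trans (htop ▸ hcard))
  refine ⟨r, m, hm1, hm, hτr, fun q => hcov q τ hτr, hn.conj_mem r (mem_zpowers r) τ, ?_⟩
  have hρτ : τ * r ^ 2 ^ (m - 1) = r ^ 2 ^ (m - 1) * τ := by
    have h1 := hn.conj_mem _ hρr τ
    rcases CfsgLib.RankOneFour.eq_of_involution hρr hρo h1 (by
      rw [conj_mul, ← sq (r ^ 2 ^ (m - 1)), show (r ^ 2 ^ (m - 1)) ^ 2 = 1 by
        nth_rewrite 2 [← hρo]; exact pow_orderOf_eq_one _, mul_one, mul_inv_cancel]) with h | h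
    · exact absurd (conj_eq_one_iff.1 h) fun h' => by rw [h', orderOf_one] at hρo; norm_num at hρo
    · exact mul_inv_eq_iff_eq_mul.1 h
  rcases hC _ hρτ with h | h | h | h
  · rw [h, orderOf_one] at hρo; norm_num at hρo
  · exact absurd (h ▸ hρr) hτr
  · exact Or.inl h
  · exact Or.inr ⟨hm2, h⟩

end CfsgLib.CyclicFour
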