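import Cfsg.Agent.CyclicFour.Endgame
import Cfsg.Agent.CyclicFour.Model
import Cfsg.Agent.S4418

/-!
The case of a four-group `⟨y * y, v⟩` in `A ⊓ T` normal in `T`.
-/

set_option autoImplicit false

open Subgroup

namespace CfsgLib.CyclicFour

open CfsgLib.RankOneFour

variable {G : Type*} [Group G] [Finite G] {A T : Subgroup G} {t y : G}

/-- Products inside a four-group. -/
theorem klein_mul {z v p q : G} (hzz : z * z = 1) (hvv : v * v = 1) (hc : v * z = z * v)
    (hp : p = 1 ∨ p = z ∨ p = v ∨ p = z * v) (hq : q = 1 ∨ q = z ∨ q = v ∨ q = z * v) :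
    p * q = 1 ∨ p * q = z ∨ p * q = v ∨ p * q = z * v := by
  have e1 : v * (z * v) = z := by rw [← mul_assoc, hc, mul_assoc, hvv, mul_one]
  have e2 : z * (z * v) = v := by rw [← mul_assoc, hzz, one_mul]
  have e3 : z * v * z = v := by rw [mul_assoc, hc, e2]
  have e4 : z * v * v = z := by rw [mul_assoc, hvv, mul_one]
  have e5 : z * v * (z * v) = 1 := by rw [mul_assoc, e1, hzz]
  rcases hp with h1 | h1 | h1 | h1 <;> rcases hq with h2 | h2 | h2 | h2 <;> rw [h1, h2] <;>
    simp [hzz, hvv, hc, e1, e2, e3, e4, e5]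

/-- A metacyclic `A ⊓ T` with cyclic quotient of order larger than two makes `A` solvable. -/
theorem Setting.isSolvable_of_metacyclic (h : Setting A T t y) {x a : G} (hx : x ∈ A ⊓ T)
    (hn : ∀ s ∈ A ⊓ T, s * x * s⁻¹ ∈ zpowers x) (ha : a ∈ A ⊓ T)
    (hcov : ∀ s ∈ A ⊓ T, ∃ k : ℤ, a ^ k * s ∈ zpowers x)
    (ha1 : a ∉ zpowers x) (ha2 : a * a ∉ zpowers x) : Group.IsSolvable ↥A := by
  haveI : Fact (Nat.Prime 2) := ⟨Nat.prime_two⟩
  obtain ⟨Q, hQ⟩ :=
    ((h.two_group.to_le (inf_le_right : A ⊓ T ≤ T)).comap_subtype (K := A)).exists_le_sylow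
  have hQe : (A ⊓ T).subgroupOf A = (Q : Subgroup A) := by
    refine eq_of_le_of_card_ge hQ ?_
    rw [Nat.card_congr (subgroupOfEquivOfLe (inf_le_left : A ⊓ T ≤ A)).toEquiv,
      ← card_map_of_injective (K := (Q : Subgroup A)) A.subtype_injective]
    exact h.max_inf _ (Q.2.map A.subtype) (map_subtype_le _)
  have hQS : ∀ s : ↥(Q : Subgroup A), ((s : A) : G) ∈ A ⊓ T := fun s => by
    have h1 : (s : A) ∈ (A ⊓ T).subgroupOf A := hQe.symm ▸ s.2
    exact h1
  have hxQ : (⟨x, hx.1⟩ : A) ∈ (Q : Subgroup A) := hQe ▸ hx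
  have haQ : (⟨a, ha.1⟩ : A) ∈ (Q : Subgroup A) := hQe ▸ ha
  set N : Subgroup ↥(Q : Subgroup A) := zpowers ⟨⟨x, hx.1⟩, hxQ⟩ with hN
  have hNmem : ∀ s : ↥(Q : Subgroup A), s ∈ N ↔ ((s : A) : G) ∈ zpowers x := by
    intro s
    rw [hN, mem_zpowers_iff, mem_zpowers_iff]
    refine exists_congr fun k => ⟨fun h1 => ?_, fun h1 => Subtype.ext (Subtype.ext ?_)⟩
    · rw [← h1]; simp
    · simpa using h1
  haveI : N.Normal := ⟨fun c hc s => by
    rw [hNmem] at hc ⊢
    obtain ⟨k, hk⟩ := mem_zpowers_iff.1 hc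
    simp only [Subgroup.coe_mul, Subgroup.coe_inv]
    rw [← hk, ← conj_zpow]
    exact zpow_mem (hn _ (hQS s)) k⟩
  set q : ↥(Q : Subgroup A) ⧸ N := QuotientGroup.mk ⟨⟨a, ha.1⟩, haQ⟩ with hq
  have htop : zpowers q = ⊤ := by
    rw [eq_top_iff]
    intro p _
    obtain ⟨s, rfl⟩ := QuotientGroup.mk_surjective p
    obtain ⟨k, hk⟩ := hcov _ (hQS s)
    refine mem_zpowers_iff.2 ⟨-k, ?_⟩
    rw [hq, ← QuotientGroup.mk_zpow, QuotientGroup.eq, hNmem]
    simpa using hk
  haveI hcyc : IsCyclic (↥(Q : Subgroup A) ⧸ N) := ⟨⟨q, fun p => mem_zpowers_iff.1 (by rw [htop]; exact mem_top p)⟩⟩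
  refine Cfsg.Agent.S4418.result Q N inferInstance hcyc ?_
  rw [← card_top (G := ↥(Q : Subgroup A) ⧸ N), ← htop, Nat.card_zpowers]
  have h1 : q ≠ 1 := fun h1 => ha1 (by
    rw [hq, QuotientGroup.eq_one_iff, hNmem] at h1; exact h1)
  have h2 : q * q ≠ 1 := fun h2 => ha2 (by
    rw [hq, ← QuotientGroup.mk_mul, QuotientGroup.eq_one_iff, hNmem] at h2; exact h2)
  have h0 := orderOf_pos q
  by_contra hle
  rcases (show orderOf q = 1 ∨ orderOf q = 2 by omega) with h3 | h3
  · exact h1 (orderOf_eq_one_iff.1 h3)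
  · exact h2 (by rw [← sq]; exact orderOf_dvd_iff_pow_eq_one.1 (dvd_of_eq h3))

/-- The case of a normal four-group. -/
theorem Setting.false_of_normal_four (h : Setting A T t y) (hns : ¬ Group.IsSolvable ↥A) {z v : G}
    (hzS : z ∈ A ⊓ T) (hvS : v ∈ A ⊓ T) (hzo : orderOf z = 2) (hvo : orderOf v = 2) (hzv : z ≠ v)
    (hzc : ∀ p ∈ T, p * z = z * p)
    (hconj : ∀ p ∈ T, p * v * p⁻¹ = v ∨ p * v * p⁻¹ = z * v) : False := by
  haveI : Fact (Nat.Prime 2) := ⟨Nat.prime_two⟩
  have hzy : z = y * y := h.central_eq hzS hzo hzc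
  obtain ⟨-, hzz', hz1'⟩ := pow_four_of_orderOf h.y_four
  rw [← hzy] at hzz' hz1'
  have hzz : z * z = 1 := hzz'
  have hz1 : z ≠ 1 := hz1'
  have hvv : v * v = 1 := by rw [← sq, ← hvo, pow_orderOf_eq_one]
  have hv1 : v ≠ 1 := fun h1 => by rw [h1, orderOf_one] at hvo; norm_num at hvo
  have hvi : v⁻¹ = v := inv_eq_of_mul_eq_one_right hvv
  have hzi : z⁻¹ = z := inv_eq_of_mul_eq_one_right hzz
  have htv : t * v * t⁻¹ = z * v := (hconj t h.t_mem).resolve_left fun h1 =>
    hzv ((h.conj_fixed_eq hvS hvv hv1 (mul_inv_eq_iff_eq_mul.1 h1)).trans hzy.symm).symm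
  have hzycomm : z * y = y * z := (hzc y h.y_mem.2).symm
  -- the case where `y` moves `v`
  by_cases hyv : y * v = v * y
  swap
  · have hyv' : y * v * y⁻¹ = z * v := (hconj y h.y_mem.2).resolve_left fun h1 =>
      hyv (mul_inv_eq_iff_eq_mul.1 h1)
    have hvy : v * y * v = z * y := by
      calc v * y * v = v * (y * v * y⁻¹) * y := by group
        _ = (v * z) * v * y := by rw [hyv']; group
        _ = z * (v * v) * y := by rw [hzc v hvS.2]; group
        _ = z * y := by rw [hvv, mul_one]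
    have hvyv : ∀ k : ℤ, v * y ^ k * v = (z * y) ^ k := fun k => by
      nth_rewrite 2 [← hvi]
      rw [← conj_zpow, hvi, hvy]
    have hzyk : ∀ k : ℤ, (z * y) ^ k * y ^ k ∈ zpowers y := fun k =>
      mul_mem (zpow_mem (mul_mem (hzy ▸ mul_mem (mem_zpowers y) (mem_zpowers y)) (mem_zpowers y)) k)
        (zpow_mem (mem_zpowers y) k)
    have hvny : v ∉ zpowers y := fun h1 => hyv (by
      obtain ⟨k, rfl⟩ := mem_zpowers_iff.1 h1
      exact ((Commute.refl y).zpow_right k).eq)
    -- `A ⊓ T` is generated by `y` and `v`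
    have hform : ∀ s ∈ A ⊓ T, s ∈ zpowers y ∨ v * s ∈ zpowers y := by
      by_contra hcon
      push Not at hcon
      obtain ⟨s, hs, hs1, hs2⟩ := hcon
      set V : Subgroup G :=
        { carrier := {p | p ∈ A ⊓ T ∧ p * v = v * p}
          one_mem' := ⟨one_mem _, by rw [one_mul, mul_one]⟩
          mul_mem' := fun {p q} hp hq => ⟨mul_mem hp.1 hq.1, (Commute.mul_left hp.2 hq.2).eq⟩
          inv_mem' := fun {p} hp => ⟨inv_mem hp.1, (Commute.inv_left hp.2).eq⟩ } with hV
      set W : Subgroup G := closure ({z, v} : Set G) with hW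
      have hVn : T ≤ normalizer (V : Set G) := fun p hp => mem_normalizer_of_forall_conj fun q hq => by
        refine ⟨h.conj_mem hp hq.1, ?_⟩
        have h1 : Commute (p * q * p⁻¹) (p * v * p⁻¹) :=
          (show Commute q v from hq.2).map (MulAut.conj p).toMonoidHom
        have hqz : Commute (p * q * p⁻¹) z := hzc _ (h.conj_mem hp hq.1).2
        rcases hconj p hp with h2 | h2 <;> rw [h2] at h1
        · exact h1.eq
        · have h3 := hqz.mul_right h1
          rwa [← mul_assoc, hzz, one_mul] at h3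
      have hWle : ∀ q ∈ W, q = 1 ∨ q = z ∨ q = v ∨ q = z * v := by
        intro q hq
        refine closure_induction (p := fun q _ => q = 1 ∨ q = z ∨ q = v ∨ q = z * v) ?_ (Or.inl rfl)
          ?_ ?_ hq
        · rintro q (h1 | h1)
          · exact Or.inr (Or.inl h1)
          · exact Or.inr (Or.inr (Or.inl h1))
        · exact fun p q _ _ hp hq => klein_mul hzz hvv (hzc v hvS.2) hp hq
        · rintro q - (h1 | h1 | h1 | h1) <;> rw [h1] <;> simp [hzi, hvi, hzc v hvS.2]
      by_cases hVW : V ≤ W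
      · -- `y` or `v * y` carries `s` into `V`
        have hmem : ∀ q ∈ A ⊓ T, q * v = v * q → q ∈ zpowers y ∨ v * q ∈ zpowers y := by
          intro q hq hqv
          have hzyq : z ∈ zpowers y := hzy ▸ mul_mem (mem_zpowers y) (mem_zpowers y)
          rcases hWle q (hVW ⟨hq, hqv⟩) with rfl | rfl | rfl | rfl
          · exact Or.inl (one_mem _)
          · exact Or.inl hzyq
          · exact Or.inr (by rw [hvv]; exact one_mem _)
          · exact Or.inr (by rw [← mul_assoc, hzc v hvS.2, mul_assoc, hvv, mul_one]; exact hzyq)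
        rcases hconj s hs.2 with h1 | h1
        · exact (hmem s hs (mul_inv_eq_iff_eq_mul.1 h1)).elim hs1 hs2
        · have h2 : y⁻¹ * s * v * (y⁻¹ * s)⁻¹ = v := by
            calc y⁻¹ * s * v * (y⁻¹ * s)⁻¹ = y⁻¹ * (s * v * s⁻¹) * y := by group
              _ = y⁻¹ * (y * v * y⁻¹) * y := by rw [h1, hyv']
              _ = v := by group
          rcases hmem _ (mul_mem (inv_mem h.y_mem) hs) (mul_inv_eq_iff_eq_mul.1 h2) with h3 | h3
          · exact hs1 (by simpa using mul_mem (mem_zpowers y) h3)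
          · refine hs2 ?_
            have h4 : v * s = (v * y * v) * (v * (y⁻¹ * s)) := by
              calc v * s = v * y * (1 : G) * (y⁻¹ * s) := by group
                _ = v * y * (v * v) * (y⁻¹ * s) := by rw [hvv]
                _ = _ := by group
            rw [h4, hvy]
            exact mul_mem (mul_mem (hzy ▸ mul_mem (mem_zpowers y) (mem_zpowers y)) (mem_zpowers y)) h3
      · obtain ⟨q, hqV, hqW, hqc⟩ := LocalEven48.exists_not_mem_commutator_mem
          (h.two_group.to_le (fun p (hp : p ∈ V) => hp.1.2)) h.two_group hVn hVW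
        have hd : t * q * t⁻¹ * q⁻¹ ∈ W := by
          have := hqc t h.t_mem
          rwa [commutatorElement_def] at this
        set d := t * q * t⁻¹ * q⁻¹ with hdd
        have htq : t * q * t⁻¹ = d * q := by rw [hdd]; group
        have hz_W : z ∈ W := subset_closure (by simp)
        have hzy' : z ∈ zpowers y := hzy ▸ mul_mem (mem_zpowers y) (mem_zpowers y)
        have hWz : ∀ q' ∈ V, q' ∈ zpowers y → q' ∈ W := by
          intro q' hq' hq'y
          obtain ⟨k, rfl⟩ := mem_zpowers_iff.1 hq'y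
          rcases Int.even_or_odd' k with ⟨l, rfl | rfl⟩
          · rw [zpow_mul, zpow_two, ← hzy]; exact zpow_mem hz_W l
          · exfalso
            refine hyv ?_
            have h1 : Commute (z ^ l * y) v := by
              have h2 : Commute (y ^ (2 * l + 1)) v := hq'.2
              rwa [zpow_add, zpow_mul, zpow_two, ← hzy, zpow_one] at h2
            have h2 := ((show Commute z v from (hzc v hvS.2).symm).zpow_left (-l)).mul_left h1
            rwa [← mul_assoc, ← zpow_add, neg_add_cancel, zpow_zero, one_mul] at h2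
        have hvV : v ∈ V := ⟨hvS, rfl⟩
        have hvW : v ∈ W := subset_closure (by simp)
        have hfix : t * q * t⁻¹ = q → False := fun h1 =>
          hqW (hWz q hqV (h.fixed q hqV.1 (mul_inv_eq_iff_eq_mul.1 h1)))
        rcases hWle d hd with h1 | h1 | h1 | h1
        · exact hfix (by rw [htq, h1, one_mul])
        · have h2 : t * (q * v) * t⁻¹ = q * v := by
            rw [← conj_mul, htq, htv, h1]
            calc z * q * (z * v) = z * (q * z) * v := by group
              _ = z * z * q * v := by rw [hzc q hqV.1.2]; group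
              _ = q * v := by rw [hzz, one_mul]
          refine hqW ?_
          have h3 := hWz _ (mul_mem hqV hvV) (h.fixed _ (mul_mem hqV.1 hvS) (mul_inv_eq_iff_eq_mul.1 h2))
          simpa using mul_mem h3 (inv_mem hvW)
        · -- `d` is fixed up to inversion by `t`
          have h2 : t * d * t⁻¹ * d = 1 := by
            calc t * d * t⁻¹ * d = t * (t * q * t⁻¹ * q⁻¹) * t⁻¹ * (t * q * t⁻¹ * q⁻¹) := by rw [hdd]
              _ = (t * t) * q * (t⁻¹ * t⁻¹) * q⁻¹ := by group
              _ = 1 := by rw [h.t_inv, h.t_sq]; group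
          rw [h1, htv, mul_assoc, hvv, mul_one] at h2
          exact hz1 h2
        · have h2 : t * d * t⁻¹ * d = 1 := by
            calc t * d * t⁻¹ * d = t * (t * q * t⁻¹ * q⁻¹) * t⁻¹ * (t * q * t⁻¹ * q⁻¹) := by rw [hdd]
              _ = (t * t) * q * (t⁻¹ * t⁻¹) * q⁻¹ := by group
              _ = 1 := by rw [h.t_inv, h.t_sq]; group
          rw [h1, ← conj_mul, hzc t h.t_mem, mul_inv_cancel_right, htv, ← mul_assoc z z v, hzz,
            one_mul, hzc v hvS.2 |>.symm, ← mul_assoc, hvv, one_mul] at h2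
          exact hz1 h2
    have hzyc : ∀ k : ℤ, Commute z (y ^ k) := fun k =>
      (show Commute z y from hzycomm).zpow_right k
    have hsq : ∀ p ∈ T, p * p ∈ zpowers y := by
      have hzy' : z ∈ zpowers y := hzy ▸ mul_mem (mem_zpowers y) (mem_zpowers y)
      intro p hp
      rcases h.decomp hp with hpS | ⟨s, hs, rfl⟩
      · rcases hform p hpS with h1 | h1
        · exact mul_mem h1 h1
        · obtain ⟨k, hk⟩ := mem_zpowers_iff.1 h1
          rw [show p = v * y ^ k by rw [hk, ← mul_assoc, hvv, one_mul],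
            show v * y ^ k * (v * y ^ k) = v * y ^ k * v * y ^ k by group, hvyv]
          exact hzyk k
      · have e1 : s * t * (s * t) = s * (t * s * t⁻¹) := by rw [h.t_inv]; group
        rw [e1]
        rcases hform s hs with h1 | h1
        · obtain ⟨k, rfl⟩ := mem_zpowers_iff.1 h1
          have h2 : t * y ^ k * t⁻¹ = y ^ k := by
            rw [← conj_zpow, h.y_comm, mul_inv_cancel_right]
          rw [h2]; exact mul_mem h1 h1
        · obtain ⟨k, hk⟩ := mem_zpowers_iff.1 h1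
          have hs' : s = v * y ^ k := by rw [hk, ← mul_assoc, hvv, one_mul]
          have h2 : t * s * t⁻¹ = z * v * y ^ k := by
            rw [hs', ← conj_mul, htv, ← conj_zpow, h.y_comm, mul_inv_cancel_right]
          rw [h2, hs', show v * y ^ k * (z * v * y ^ k) = v * (y ^ k * z) * v * y ^ k by group,
            ← (hzyc k).eq, show v * (z * y ^ k) * v * y ^ k = (v * z) * (y ^ k * v) * y ^ k by group,
            hzc v hvS.2, show z * v * (y ^ k * v) * y ^ k = z * ((v * y ^ k * v) * y ^ k) by group,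
            hvyv]
          exact mul_mem hzy' (hzyk k)
    refine h.false_of_cyclic h.y_mem (z := z) (hzy ▸ mul_mem (mem_zpowers y) (mem_zpowers y)) hzo hzc
      ?_ hsq hvS hvv hvny (w := y * t) (T.mul_mem h.y_mem.2 h.t_mem) ?_ ?_
    · intro p hp q hq hpy hqy
      obtain ⟨k, hk⟩ := mem_zpowers_iff.1 ((hform p hp).resolve_left hpy)
      obtain ⟨l, hl⟩ := mem_zpowers_iff.1 ((hform q hq).resolve_left hqy)
      have hp' : p = v * y ^ k := by rw [hk, ← mul_assoc, hvv, one_mul]
      have hq' : q = v * y ^ l := by rw [hl, ← mul_assoc, hvv, one_mul]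
      rw [hp', hq', show v * y ^ k * (v * y ^ l) = v * y ^ k * v * y ^ l by group, hvyv]
      exact mul_mem (zpow_mem (mul_mem (hzy ▸ mul_mem (mem_zpowers y) (mem_zpowers y))
        (mem_zpowers y)) k) (zpow_mem (mem_zpowers y) l)
    · calc y * t * v = y * (t * v * t⁻¹) * t := by group
        _ = (y * z) * v * t := by rw [htv]; group
        _ = z * (y * v * y⁻¹) * y * t := by rw [← hzycomm]; group
        _ = (z * z) * v * y * t := by rw [hyv']; group
        _ = v * (y * t) := by rw [hzz]; group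
    · calc y * t * (y * t) = y * (t * y) * t := by group
        _ = y * y * (t * t) := by rw [h.y_comm]; group
        _ = z := by rw [h.t_sq, mul_one, hzy]
  -- from now on `y` centralises `v`
  have hzvc : v * z = z * v := hzc v hvS.2
  let V : Subgroup G :=
    { carrier := {p | p = 1 ∨ p = z ∨ p = v ∨ p = z * v}
      one_mem' := Or.inl rfl
      mul_mem' := fun hp hq => klein_mul hzz hvv hzvc hp hq
      inv_mem' := by
        rintro p (h1 | h1 | h1 | h1) <;> simp [h1, hzi, hvi, hzvc] }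
  have hVmem : ∀ p, p ∈ V ↔ p = 1 ∨ p = z ∨ p = v ∨ p = z * v := fun p => Iff.rfl
  have hzV : z ∈ V := Or.inr (Or.inl rfl)
  have hvV : v ∈ V := Or.inr (Or.inr (Or.inl rfl))
  have hVS : V ≤ A ⊓ T := by
    rintro p (rfl | rfl | rfl | rfl)
    · exact one_mem _
    · exact hzS
    · exact hvS
    · exact mul_mem hzS hvS
  have hVsq : ∀ d ∈ V, d * d = 1 := by
    rintro d (rfl | rfl | rfl | rfl)
    · exact one_mul 1
    · exact hzz
    · exact hvv
    · rw [show z * v * (z * v) = z * (v * z) * v by group, hzvc, ← mul_assoc, hzz, one_mul, hvv]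
  have hVconj : ∀ p ∈ T, ∀ d ∈ V, p * d * p⁻¹ = d ∨ p * d * p⁻¹ = z * d := by
    intro p hp d hd
    rcases hd with rfl | rfl | rfl | rfl
    · exact Or.inl (by rw [mul_one, mul_inv_cancel])
    · exact Or.inl (by rw [hzc p hp, mul_inv_cancel_right])
    · exact hconj p hp
    · rw [← conj_mul, hzc p hp, mul_inv_cancel_right]
      rcases hconj p hp with h1 | h1 <;> rw [h1]
      · exact Or.inl rfl
      · exact Or.inr rfl
  have hVconjV : ∀ p ∈ T, ∀ d ∈ V, p * d * p⁻¹ ∈ V := fun p hp d hd => by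
    rcases hVconj p hp d hd with h1 | h1 <;> rw [h1]
    · exact hd
    · exact mul_mem hzV hd
  have hVy : ∀ d ∈ V, Commute d y := by
    rintro d (rfl | rfl | rfl | rfl)
    · exact Commute.one_left y
    · exact hzycomm
    · exact hyv.symm
    · exact (show Commute z y from hzycomm).mul_left hyv.symm
  have hyVsq : ∀ p : G, y⁻¹ * p ∈ V → p * p = z := by
    intro p hp
    calc p * p = y * ((y⁻¹ * p) * y) * (y⁻¹ * p) := by group
      _ = y * (y * (y⁻¹ * p)) * (y⁻¹ * p) := by rw [(hVy _ hp).eq]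
      _ = y * y * ((y⁻¹ * p) * (y⁻¹ * p)) := by group
      _ = z := by rw [hVsq _ hp, mul_one, hzy]
  have hz_notin : y ∉ V := fun h1 => hz1 (by rw [hzy]; exact hVsq y h1)
  -- elements of `A ⊓ T` moved by `t` only within `V`
  have hWfix : ∀ s ∈ A ⊓ T, s⁻¹ * (t * s * t⁻¹) ∈ V → s ∈ V ∨ y⁻¹ * s ∈ V := by
    intro s hs hd
    set d := s⁻¹ * (t * s * t⁻¹) with hdd
    have h2 : t * d * t⁻¹ = d⁻¹ := by
      calc t * d * t⁻¹ = (t * s⁻¹ * t) * s * (t⁻¹ * t⁻¹) := by rw [hdd]; group
        _ = (t * s⁻¹ * t⁻¹) * s := by rw [h.t_inv, h.t_sq, mul_one]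
        _ = d⁻¹ := by rw [hdd]; group
    rw [inv_eq_of_mul_eq_one_right (hVsq d hd)] at h2
    have hts : t * s * t⁻¹ = s * d := by rw [hdd]; group
    have hfix : ∀ q ∈ A ⊓ T, t * q * t⁻¹ = q → q ∈ V ∨ y⁻¹ * q ∈ V := by
      intro q hq hq1
      obtain ⟨k, rfl⟩ := mem_zpowers_iff.1 (h.fixed q hq (mul_inv_eq_iff_eq_mul.1 hq1))
      rcases Int.even_or_odd' k with ⟨l, rfl | rfl⟩
      · refine Or.inl ?_
        rw [zpow_mul, zpow_two, ← hzy]; exact zpow_mem hzV l
      · refine Or.inr ?_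
        rw [← zpow_neg_one y, ← zpow_add, show -1 + (2 * l + 1) = 2 * l by ring, zpow_mul, zpow_two,
          ← hzy]
        exact zpow_mem hzV l
    rcases hd with h1 | h1 | h1 | h1
    · exact hfix s hs (by rw [hts, h1, mul_one])
    · have h3 : t * (s * v) * t⁻¹ = s * v := by
        rw [← conj_mul, hts, htv, h1, mul_assoc, ← mul_assoc z z, hzz, one_mul]
      rcases hfix _ (mul_mem hs hvS) h3 with h4 | h4
      · exact Or.inl (by simpa using mul_mem h4 (inv_mem hvV))
      · exact Or.inr (by simpa [mul_assoc] using mul_mem h4 (inv_mem hvV))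
    · rw [h1, htv] at h2
      exact absurd (by simpa using h2) hz1
    · rw [h1, ← conj_mul, hzc t h.t_mem, mul_inv_cancel_right, htv, ← mul_assoc, hzz, one_mul] at h2
      exact absurd (by simpa using h2.symm) hz1
  -- the quotient of `T` by `V`
  let V' : Subgroup T := V.subgroupOf T
  haveI : V'.Normal := ⟨fun c hc p => hVconjV p p.2 c hc⟩
  let π : T →* T ⧸ V' := QuotientGroup.mk' V'
  have hπ : ∀ p q : T, π p = π q ↔ (p : G)⁻¹ * q ∈ V := fun p q => QuotientGroup.eq
  have hπ1 : ∀ p : T, π p = 1 ↔ (p : G) ∈ V := fun p => QuotientGroup.eq_one_iff p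
  set yT : T := ⟨y, h.y_mem.2⟩ with hyT
  set tT : T := ⟨t, h.t_mem⟩ with htT
  have hf2 : orderOf (π yT) = 2 := by
    refine orderOf_eq_prime ?_ fun h1 => hz_notin ((hπ1 yT).1 h1)
    rw [sq, ← map_mul, hπ1]
    show y * y ∈ V
    rw [← hzy]; exact hzV
  have hτ2 : orderOf (π tT) = 2 := by
    refine orderOf_eq_prime ?_ fun h1 => h.t_notMem (hVS ((hπ1 tT).1 h1)).1
    rw [sq, ← map_mul, hπ1]
    show t * t ∈ V
    rw [h.t_sq]; exact one_mem _
  have hτf : π tT ≠ π yT := fun h1 => by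
    have h2 : t⁻¹ * y ∈ A := (hVS ((hπ _ _).1 h1)).1
    refine h.t_notMem ?_
    have h3 := A.mul_mem h.y_mem.1 (A.inv_mem h2)
    simpa using h3
  have hcent : ∀ q : T ⧸ V', π tT * q = q * π tT →
      q = 1 ∨ q = π tT ∨ q = π yT ∨ q = π tT * π yT := by
    intro q hq
    obtain ⟨p, rfl⟩ := QuotientGroup.mk'_surjective V' q
    have hcom : π tT * π yT = π yT * π tT := by
      rw [← map_mul, ← map_mul]
      exact congrArg π (Subtype.ext h.y_comm)
    have hS : ∀ s : T, (s : G) ∈ A ⊓ T → π tT * π s = π s * π tT → π s = 1 ∨ π s = π yT := by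
      intro s hs hsq
      have h1 : π (tT * s * tT⁻¹) = π s := by
        rw [map_mul, map_mul, map_inv, hsq, mul_inv_cancel_right]
      rcases hWfix s hs ((hπ _ _).1 h1.symm) with h2 | h2
      · exact Or.inl ((hπ1 s).2 h2)
      · exact Or.inr ((hπ yT s).2 h2).symm
    rcases h.decomp p.2 with hp | ⟨s, hs, hps⟩
    · rcases hS p hp hq with h1 | h1
      · exact Or.inl h1
      · exact Or.inr (Or.inr (Or.inl h1))
    · have hp' : p = (⟨s, hs.2⟩ : T) * tT := Subtype.ext hps
      rw [hp', map_mul, ← mul_assoc] at hq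
      have hq' := mul_right_cancel hq
      rw [hp', map_mul]
      rcases hS ⟨s, hs.2⟩ hs hq' with h1 | h1 <;> rw [h1]
      · exact Or.inr (Or.inl (one_mul _))
      · exact Or.inr (Or.inr (Or.inr hcom.symm))
  obtain ⟨r', m, hm, hro, hτr, hcov, hτrτ, hrf⟩ := exists_cyclic_model (h.two_group.to_quotient V')
    hτ2 hf2 hτf (by rw [← map_mul, ← map_mul]; exact congrArg π (Subtype.ext h.y_comm)) hcent
  obtain ⟨⟨r, hrT⟩, hr⟩ := QuotientGroup.mk'_surjective V' r'
  -- lifts
  have hlift : ∀ p : T, π p ∈ zpowers r' → ∃ k : ℤ, ∃ d ∈ V, (p : G) = r ^ k * d := by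
    intro p hp
    obtain ⟨k, hk⟩ := mem_zpowers_iff.1 hp
    rw [← hr] at hk
    refine ⟨k, (r ^ k)⁻¹ * p, ?_, by group⟩
    have h1 := (hπ _ _).1 ((map_zpow π ⟨r, hrT⟩ k).trans hk)
    simpa using h1
  have hall : ∀ p ∈ T, ∃ k : ℤ, ∃ d ∈ V, p = r ^ k * d ∨ p = t * (r ^ k * d) := by
    intro p hp
    rcases hcov (π ⟨p, hp⟩) with h1 | h1
    · obtain ⟨k, d, hd, h2⟩ := hlift _ h1
      exact ⟨k, d, hd, Or.inl h2⟩
    · rw [← map_mul] at h1
      obtain ⟨k, d, hd, h2⟩ := hlift _ h1
      refine ⟨k, d, hd, Or.inr ?_⟩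
      rw [← h2]
      show p = t * (t * p)
      rw [← mul_assoc, h.t_sq, one_mul]
  have hrr : r * r ∈ A := by
    rcases h.decomp hrT with h1 | ⟨s, hs, rfl⟩
    · exact A.mul_mem h1.1 h1.1
    · rw [show s * t * (s * t) = s * (t * s * t⁻¹) by rw [h.t_inv]; group]
      exact A.mul_mem hs.1 (h.conj_mem h.t_mem hs).1
  -- the involution of the cyclic part is `y`
  have hrP : y⁻¹ * r ^ 2 ^ (m - 1) ∈ V := by
    rcases hrf with h1 | ⟨hm2, h1⟩
    · rw [← hr, ← map_pow] at h1
      exact (hπ yT _).1 h1.symm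
    · exfalso
      rw [← hr, ← map_pow, ← map_mul] at h1
      have h2 := ((hπ (tT * yT) _).1 h1.symm)
      have h3 : r ^ 2 ^ (m - 1) ∈ A := by
        rw [show 2 ^ (m - 1) = 2 * 2 ^ (m - 2) by rw [← pow_succ']; congr 1; omega, pow_mul, sq]
        exact A.pow_mem hrr _
      refine h.t_notMem ?_
      have h4 : (t * y)⁻¹ * r ^ 2 ^ (m - 1) ∈ A := (hVS h2).1
      have h5 := A.mul_mem (A.mul_mem h3 (A.inv_mem h4)) (A.inv_mem h.y_mem.1)
      simpa [mul_assoc] using h5
  have hr2m : r ^ 2 ^ m = z := by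
    rw [show 2 ^ m = 2 ^ (m - 1) * 2 by rw [← pow_succ]; congr 1; omega, pow_mul, sq]
    exact hyVsq _ hrP
  have hr_o : orderOf r = 2 ^ (m + 1) := by
    refine orderOf_eq_prime_pow (by rw [hr2m]; exact hz1) ?_
    rw [pow_succ, pow_mul, hr2m, sq, hzz]
  by_cases hrA : r ∈ A
  · -- `(A ⊓ T) / V` is cyclic
    set D : Subgroup (T ⧸ V') := zpowers (r' * r') with hD
    let M : Subgroup G := (D.comap π).map T.subtype
    have hMmem : ∀ p, ∀ hp : p ∈ T, (p ∈ M ↔ π ⟨p, hp⟩ ∈ D) := fun p hp =>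
      ⟨fun ⟨w, hw, hwp⟩ => by
        have : w = ⟨p, hp⟩ := Subtype.ext hwp
        exact this ▸ hw, fun h1 => ⟨⟨p, hp⟩, h1, rfl⟩⟩
    have hrS : r ∈ A ⊓ T := ⟨hrA, hrT⟩
    have hSform : ∀ s, ∀ hs : s ∈ A ⊓ T, ∃ k : ℤ, π ⟨s, hs.2⟩ = r' ^ k := by
      intro s hs
      obtain ⟨k, d, hd, h1 | h1⟩ := hall s hs.2
      · refine ⟨k, ?_⟩
        rw [← hr, ← map_zpow, hπ]
        show s⁻¹ * r ^ k ∈ V
        rw [h1, _root_.mul_inv_rev, mul_assoc, inv_mul_cancel, mul_one]
        exact inv_mem hd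
      · exfalso
        refine h.t_notMem ?_
        have h2 := A.mul_mem hs.1 (A.inv_mem (A.mul_mem (A.zpow_mem hrA k) (hVS hd).1))
        rwa [h1, mul_inv_cancel_right] at h2
    have hodd : ∀ k : ℤ, r' ^ (2 * k + 1) ∉ D := by
      intro k hk
      obtain ⟨l, hl⟩ := mem_zpowers_iff.1 hk
      rw [← zpow_two, ← zpow_mul] at hl
      have h1 := orderOf_dvd_iff_zpow_eq_one.2 (show r' ^ (2 * k + 1 - 2 * l) = 1 by
        rw [zpow_sub, hl, mul_inv_cancel])
      rw [hro] at h1
      have h2 : (2 : ℤ) ∣ 2 * k + 1 - 2 * l :=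
        dvd_trans (by exact_mod_cast dvd_pow_self 2 (show m ≠ 0 by omega)) h1
      omega
    have heven : ∀ k : ℤ, r' ^ (2 * k) ∈ D := fun k => by
      rw [zpow_mul, zpow_two]; exact zpow_mem (mem_zpowers _) k
    have hMS : M ≤ A ⊓ T := by
      rintro _ ⟨w, hw, rfl⟩
      obtain ⟨l, hl⟩ := mem_zpowers_iff.1 (show π w ∈ D from hw)
      obtain ⟨k, d, hd, h1⟩ := hlift w ⟨2 * l, by rw [← hl, ← zpow_two, ← zpow_mul]⟩
      refine ⟨?_, w.2⟩
      show (w : G) ∈ A
      rw [h1]; exact A.mul_mem (A.zpow_mem hrA k) (hVS hd).1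
    have hxor : ∀ s ∈ A ⊓ T, Xor (s * r ∈ M) (s ∈ M) := by
      intro s hs
      obtain ⟨k, hk⟩ := hSform s hs
      have hk' : π ⟨s * r, mul_mem hs.2 hrT⟩ = r' ^ (k + 1) := by
        rw [zpow_add_one, ← hk, ← hr, ← map_mul]; rfl
      rw [hMmem _ (mul_mem hs.2 hrT), hMmem s hs.2, hk', hk]
      rcases Int.even_or_odd' k with ⟨l, rfl | rfl⟩
      · exact Or.inr ⟨heven l, hodd l⟩
      · exact Or.inl ⟨by rw [show 2 * l + 1 + 1 = 2 * (l + 1) by ring]; exact heven _, hodd l⟩
    have hord : ∀ s ∈ A ⊓ T, s ∉ M → 2 ^ (m + 1 - 1) < orderOf s := by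
      intro s hs hsM
      obtain ⟨k, hk⟩ := hSform s hs
      rcases Int.even_or_odd' k with ⟨l, rfl | rfl⟩
      · exact absurd ((hMmem s hs.2).2 (hk ▸ heven l)) hsM
      have h1 : y⁻¹ * s ^ 2 ^ (m - 1) ∈ V := by
        have h2 : π (⟨s, hs.2⟩ ^ 2 ^ (m - 1)) = π yT := by
          rw [map_pow, hk, ← zpow_natCast, ← zpow_mul, mul_comm, zpow_mul, zpow_natCast]
          have h3 : r' ^ 2 ^ (m - 1) = π yT := by
            rw [← hr, ← map_pow]; exact ((hπ yT _).2 hrP).symm
          have h4 : π yT * π yT = 1 := by rw [← sq, ← hf2, pow_orderOf_eq_one]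
          rw [h3, zpow_add, zpow_mul, zpow_two, h4, one_zpow, one_mul, zpow_one]
        exact (hπ yT _).1 h2.symm
      have h2 : s ^ 2 ^ m = z := by
        rw [show 2 ^ m = 2 ^ (m - 1) * 2 by rw [← pow_succ]; congr 1; omega, pow_mul, sq]
        exact hyVsq _ h1
      obtain ⟨j, hj⟩ := (IsPGroup.iff_orderOf.1 h.two_group) ⟨s, hs.2⟩
      rw [← Subgroup.orderOf_coe] at hj
      rw [Nat.add_sub_cancel]
      show 2 ^ m < orderOf s
      simp only at hj
      rw [hj]
      refine Nat.pow_lt_pow_right one_lt_two ?_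
      by_contra hle
      refine hz1 ?_
      rw [← h2, ← orderOf_dvd_iff_pow_eq_one, hj]
      exact Nat.pow_dvd_pow 2 (by omega)
    obtain ⟨b, hb, hbM⟩ := h.exists_conj_mem hMS hrS hxor (n := m + 1) (by omega) hord hrA hr_o
    obtain ⟨w, hw, hwb⟩ := hbM
    obtain ⟨l, hl⟩ := mem_zpowers_iff.1 (show π w ∈ D from hw)
    have h1 : (w : G) ^ 2 ^ (m - 1) ∈ V := by
      have h2 : π (w ^ 2 ^ (m - 1)) = 1 := by
        rw [map_pow, ← hl, ← zpow_natCast, ← zpow_mul, mul_comm, zpow_mul, zpow_natCast]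
        have h3 : (r' * r') ^ 2 ^ (m - 1) = 1 := by
          rw [← sq, ← pow_mul, ← pow_succ', Nat.sub_add_cancel hm, ← hro, pow_orderOf_eq_one]
        rw [h3, one_zpow]
      exact (hπ1 _).1 h2
    have h2 : (w : G) ^ 2 ^ m = 1 := by
      rw [show 2 ^ m = 2 ^ (m - 1) * 2 by rw [← pow_succ]; congr 1; omega, pow_mul, sq]
      exact hVsq _ h1
    have hwb' : (w : G) = b * r * b⁻¹ := hwb
    rw [hwb', conj_pow, hr2m] at h2
    exact hz1 (conj_eq_one_iff.1 h2)
  -- `r` lies outside `A`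
  have hyA : ∀ p : G, y⁻¹ * p ∈ V → p ∈ A := fun p hp => by
    have := A.mul_mem h.y_mem.1 (hVS hp).1
    simpa using this
  have hm2 : 2 ≤ m := by
    by_contra hlt
    refine hrA ?_
    have := hyA _ hrP
    rwa [show m - 1 = 0 by omega, pow_zero, pow_one] at this
  set x := r * r with hx
  set a := t * r with ha
  set N := 2 ^ (m - 2) with hN
  set i := x ^ N with hi
  have hiP : i = r ^ 2 ^ (m - 1) := by
    rw [hi, hx, ← sq, ← pow_mul, hN, ← pow_succ']
    congr 2; omega
  have hiV : y⁻¹ * i ∈ V := hiP ▸ hrP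
  have hii : i * i = z := hyVsq i hiV
  have hxS : x ∈ A ⊓ T := ⟨hrr, T.mul_mem hrT hrT⟩
  have hicx : i ∈ zpowers x := pow_mem (mem_zpowers x) N
  have hzcx : z ∈ zpowers x := hii ▸ mul_mem hicx hicx
  have hrcomm : ∀ c ∈ zpowers x, Commute r c := fun c hc => by
    obtain ⟨k, rfl⟩ := mem_zpowers_iff.1 hc
    exact ((Commute.refl r).mul_right (Commute.refl r)).zpow_right k
  have hxcomm : ∀ c ∈ zpowers x, ∀ c' ∈ zpowers x, Commute c c' := fun c hc c' hc' => by
    obtain ⟨k, rfl⟩ := mem_zpowers_iff.1 hc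
    obtain ⟨l, rfl⟩ := mem_zpowers_iff.1 hc'
    exact Commute.zpow_zpow_self x k l
  have hrnotV : ∀ k : ℤ, ∀ d ∈ V, ∀ q : G, q = r ^ (2 * k + 1) * d → q ∉ A := by
    intro k d hd q hq hqA
    refine hrA ?_
    have h2 := A.mul_mem (A.mul_mem hqA (A.inv_mem (hVS hd).1)) (A.inv_mem (A.zpow_mem hrr k))
    rw [hq, mul_inv_cancel_right, hx, ← zpow_two, ← zpow_mul, ← zpow_neg, ← zpow_add,
      show 2 * k + 1 + -(2 * k) = 1 by ring, zpow_one] at h2
    exact h2
  have haS : a ∈ A ⊓ T := by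
    refine ⟨?_, T.mul_mem h.t_mem hrT⟩
    rcases h.decomp hrT with h1 | ⟨s, hs, hrs⟩
    · exact absurd h1.1 hrA
    · have h2 : t * r = t * s * t⁻¹ := by rw [hrs, h.t_inv]; group
      show t * r ∈ A
      rw [h2]; exact (h.conj_mem h.t_mem hs).1
  have hvcx : v ∉ zpowers x := fun h1 =>
    (eq_of_involution hzcx hzo h1 hvv).elim hv1 (fun h2 => hzv h2.symm)
  have hxv : x * v = v * x := by
    refine mul_inv_eq_iff_eq_mul.1 ?_
    have h1 : x * v * x⁻¹ = r * (r * v * r⁻¹) * r⁻¹ := by rw [hx]; group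
    rcases hconj r hrT with h2 | h2
    · rw [h1, h2, h2]
    · rw [h1, h2, ← conj_mul, hzc r hrT, mul_inv_cancel_right, h2, ← mul_assoc, hzz, one_mul]
  -- `t` normalises `⟨x⟩`
  obtain ⟨q, hq⟩ : ∃ q : ℤ, ∃ d ∈ V, t * r * t⁻¹ = r ^ q * d := by
    rw [← hr] at hτrτ
    have h1 : π (tT * ⟨r, hrT⟩ * tT⁻¹) ∈ zpowers r' := by
      rw [← hr, map_mul, map_mul, map_inv]; exact hτrτ
    obtain ⟨k, d, hd, h2⟩ := hlift _ h1
    exact ⟨k, d, hd, h2⟩
  obtain ⟨d₀, hd₀, hq⟩ := hq
  have htx : t * x * t⁻¹ ∈ zpowers x := by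
    have h1 : t * x * t⁻¹ = (r ^ q * r ^ q) * (((r ^ q)⁻¹ * d₀ * r ^ q) * d₀) := by
      rw [hx, ← conj_mul, hq]; group
    rw [h1]
    refine mul_mem (by rw [← (Commute.refl r).mul_zpow]; exact zpow_mem (mem_zpowers _) q) ?_
    have h2 := hVconj (r ^ q)⁻¹ (inv_mem (zpow_mem hrT q)) d₀ hd₀
    rw [inv_inv] at h2
    rcases h2 with h3 | h3 <;> rw [h3]
    · rw [hVsq d₀ hd₀]; exact one_mem _
    · rw [mul_assoc, hVsq d₀ hd₀, mul_one]; exact hzcx
  have htcx : ∀ c ∈ zpowers x, t * c * t⁻¹ ∈ zpowers x := fun c hc => by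
    obtain ⟨k, rfl⟩ := mem_zpowers_iff.1 hc
    rw [← conj_zpow]; exact zpow_mem htx k
  have hat : ∀ c ∈ zpowers x, a * c * a⁻¹ = t * c * t⁻¹ := fun c hc => by
    rw [ha, show t * r * c * (t * r)⁻¹ = t * (r * c * r⁻¹) * t⁻¹ by group, (hrcomm c hc).eq,
      mul_inv_cancel_right]
  have hacx : ∀ c ∈ zpowers x, a * c * a⁻¹ ∈ zpowers x := fun c hc => by
    rw [hat c hc]; exact htcx c hc
  have hτr' : ∀ p : T, π p ∈ zpowers r' → π p ≠ π tT * π ⟨r, hrT⟩ := by
    intro p hp h1
    refine hτr ?_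
    have h2 := mul_mem hp (inv_mem (mem_zpowers r'))
    rw [h1, show π ⟨r, hrT⟩ = r' from hr, mul_inv_cancel_right] at h2
    exact h2
  have hnot : ∀ c ∈ zpowers x, ∀ d ∈ V, a ≠ c * d := by
    intro c hc d hd h1
    obtain ⟨k, hk⟩ := mem_zpowers_iff.1 hc
    refine hτr' ⟨c * d, T.mul_mem ((zpowers_le.2 hxS.2) hc) (hVS hd).2⟩ ?_ ?_
    · refine ⟨2 * k, ?_⟩
      show r' ^ (2 * k) = _
      rw [← hr, ← map_zpow, hπ]
      show (r ^ (2 * k))⁻¹ * (c * d) ∈ V
      rw [← hk, hx, zpow_mul, zpow_two, inv_mul_cancel_left]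
      exact hd
    · rw [← map_mul]; exact congrArg π (Subtype.ext h1.symm)
  have ha_notcx : a ∉ zpowers x := fun h1 => hnot a h1 1 (one_mem _) (mul_one a).symm
  have hav_notcx : a * v ∉ zpowers x := fun h1 => hnot _ h1 v hvV (by rw [mul_assoc, hvv, mul_one])
  have hVcx : ∀ c ∈ zpowers x, ∀ d ∈ V, c * d ∈ zpowers x ∨ ∃ c' ∈ zpowers x, c * d = c' * v := by
    intro c hc d hd
    rcases hd with rfl | rfl | rfl | rfl
    · exact Or.inl (by rwa [mul_one])
    · exact Or.inl (mul_mem hc hzcx)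
    · exact Or.inr ⟨c, hc, rfl⟩
    · exact Or.inr ⟨c * z, mul_mem hc hzcx, (mul_assoc _ _ _).symm⟩
  have hdecomp : ∀ s ∈ A ⊓ T, ∃ c ∈ zpowers x, s = c ∨ s = c * v ∨ s = a * c ∨ s = a * (c * v) := by
    intro s hs
    obtain ⟨k, d, hd, h1 | h1⟩ := hall s hs.2
    · rcases Int.even_or_odd' k with ⟨l, rfl | rfl⟩
      · rw [zpow_mul, zpow_two, ← hx] at h1
        rcases hVcx _ (zpow_mem (mem_zpowers x) l) d hd with h2 | ⟨c', hc', h2⟩
        · exact ⟨_, h2, Or.inl h1⟩
        · exact ⟨c', hc', Or.inr (Or.inl (h1.trans h2))⟩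
      · exact absurd hs.1 (hrnotV l d hd s h1)
    · rcases Int.even_or_odd' k with ⟨l, rfl | rfl⟩
      · exfalso
        refine h.t_notMem ?_
        rw [zpow_mul, zpow_two, ← hx] at h1
        have h2 := A.mul_mem hs.1 (A.inv_mem (A.mul_mem (A.zpow_mem hrr l) (hVS hd).1))
        rwa [h1, mul_inv_cancel_right] at h2
      · have h2 : s = a * (x ^ l * d) := by
          rw [h1, ha, hx, zpow_add, zpow_mul, zpow_two, zpow_one,
            ← (((Commute.refl r).mul_right (Commute.refl r)).zpow_right l).eq]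
          group
        rcases hVcx _ (zpow_mem (mem_zpowers x) l) d hd with h3 | ⟨c', hc', h3⟩
        · exact ⟨_, h3, Or.inr (Or.inr (Or.inl h2))⟩
        · exact ⟨c', hc', Or.inr (Or.inr (Or.inr (by rw [h2, h3])))⟩
  by_cases ha2 : a * a ∈ zpowers x
  swap
  · refine hns (h.isSolvable_of_metacyclic hxS ?_ haS ?_ ha_notcx ha2)
    · intro s hs
      obtain ⟨c, hc, hc1 | hc1 | hc1 | hc1⟩ := hdecomp s hs <;> subst s
      · rw [(hxcomm c hc x (mem_zpowers x)).eq, mul_inv_cancel_right]; exact mem_zpowers x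
      · rw [((hxcomm c hc x (mem_zpowers x)).mul_left (show Commute v x from hxv.symm)).eq,
          mul_inv_cancel_right]
        exact mem_zpowers x
      · rw [show a * c * x * (a * c)⁻¹ = a * (c * x * c⁻¹) * a⁻¹ by group,
          (hxcomm c hc x (mem_zpowers x)).eq, mul_inv_cancel_right]
        exact hacx x (mem_zpowers x)
      · rw [show a * (c * v) * x * (a * (c * v))⁻¹ = a * (c * v * x * (c * v)⁻¹) * a⁻¹ by group,
          ((hxcomm c hc x (mem_zpowers x)).mul_left (show Commute v x from hxv.symm)).eq,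
          mul_inv_cancel_right]
        exact hacx x (mem_zpowers x)
    · obtain ⟨c, hc, h1 | h1 | h1 | h1⟩ := hdecomp _ (mul_mem haS haS)
      · exact absurd (h1 ▸ hc) ha2
      swap
      · exact absurd ((mul_left_cancel h1) ▸ hc) ha_notcx
      swap
      · exact absurd (mul_left_cancel h1) (hnot c hc v hvV)
      intro s hs
      have hvc : ∀ c' ∈ zpowers x, a * a * (c' * v) = c * c' := fun c' hc' => by
        obtain ⟨l, hl⟩ := mem_zpowers_iff.1 hc'
        have h2 : Commute v c' := hl ▸ (show Commute v x from hxv.symm).zpow_right l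
        rw [h1, show c * v * (c' * v) = c * (v * c') * v by group, h2.eq,
          show c * (c' * v) * v = c * c' * (v * v) by group, hvv, mul_one]
      obtain ⟨c', hc', hc1 | hc1 | hc1 | hc1⟩ := hdecomp s hs <;> subst s
      · exact ⟨0, by rw [zpow_zero, one_mul]; exact hc'⟩
      · exact ⟨2, by rw [zpow_two, hvc c' hc']; exact mul_mem hc hc'⟩
      · exact ⟨-1, by rw [zpow_neg_one, inv_mul_cancel_left]; exact hc'⟩
      · exact ⟨1, by rw [zpow_one, ← mul_assoc, hvc c' hc']; exact mul_mem hc hc'⟩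
  -- now `a * a` lies in `⟨x⟩`
  have hti : t * i * t⁻¹ = i⁻¹ := by
    refine (eq_or_eq_inv_of_sq hzcx hzo hicx hii (htcx i hicx) (by
      rw [conj_mul, hii, hzc t h.t_mem, mul_inv_cancel_right])).resolve_left fun hfixed => ?_
    have hiS : i ∈ A ⊓ T := (zpowers_le.2 hxS) hicx
    have hiy : i ∈ zpowers y := h.fixed i hiS (mul_inv_eq_iff_eq_mul.1 hfixed)
    have hyi : y = i ∨ y = i⁻¹ :=
      eq_or_eq_inv_of_sq (g := y) (hzy ▸ mul_mem (mem_zpowers y) (mem_zpowers y)) hzo hiy hii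
        (mem_zpowers y) hzy.symm
    have hycx : y ∈ zpowers x := by
      rcases hyi with h1 | h1 <;> rw [h1]
      · exact hicx
      · exact inv_mem hicx
    have hay : a * y = y * a := by
      rw [ha, mul_assoc, (hrcomm y hycx).eq, ← mul_assoc, h.y_comm, mul_assoc]
    have htat : t * a * t⁻¹ = x * a⁻¹ := by
      rw [ha, hx, _root_.mul_inv_rev, h.t_inv]
      calc t * (t * r) * t = (t * t) * r * t := by group
        _ = r * t := by rw [h.t_sq, one_mul]
        _ = r * r * (r⁻¹ * t) := by group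
    have hta2 : t * (a * a) * t⁻¹ = a * a := by
      rw [← hat _ ha2]; group
    obtain ⟨l, hl⟩ := mem_zpowers_iff.1
      (h.fixed _ (mul_mem haS haS) (mul_inv_eq_iff_eq_mul.1 hta2))
    have hzodd : ∀ j : ℤ, z ^ (2 * j + 1) = z := fun j => by
      rw [zpow_add, zpow_mul, zpow_two, hzz, one_zpow, one_mul, zpow_one]
    rcases Int.even_or_odd' l with ⟨k, rfl | rfl⟩
    · -- an involution in the coset of `a` inverts `x`
      set u := y ^ (-k) with hu
      have hau : Commute a u := (show Commute a y from hay).zpow_right _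
      have huu : u * u = (a * a)⁻¹ := by
        rw [← hl, hu, ← zpow_add, ← zpow_neg]; congr 1; ring
      set e := a * u with he
      have hee : e * e = 1 := by
        rw [he, hau.symm.mul_mul_mul_comm, huu, mul_inv_cancel]
      have htu : t * u * t⁻¹ = u := by
        rw [((show Commute t y from h.y_comm).zpow_right (-k)).eq, mul_inv_cancel_right]
      have h1 : t * e * t⁻¹ = x * a⁻¹ * u := by rw [he, ← conj_mul, htat, htu]
      have hucx : u ∈ zpowers x := zpow_mem hycx _
      have hei : a⁻¹ = e * u := by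
        have h3 : a * (e * u) = 1 := by
          rw [he, show a * (a * u * u) = a * a * (u * u) by group, huu, mul_inv_cancel]
        exact inv_eq_of_mul_eq_one_right h3
      have h4 : t * e * t⁻¹ = x * e * (a * a)⁻¹ := by rw [h1, hei, ← huu]; group
      have hw : Commute (a * a)⁻¹ (x * e) := by
        refine ((hxcomm _ ha2 x (mem_zpowers x)).mul_right ?_).inv_left
        rw [he]
        exact ((Commute.refl a).mul_left (Commute.refl a)).mul_right (hxcomm _ ha2 u hucx)
      have hw2 : (a * a)⁻¹ * (a * a)⁻¹ = 1 := by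
        rw [← _root_.mul_inv_rev, ← hl, ← zpow_add, show 2 * k + 2 * k = 4 * k by ring, zpow_mul,
          show (4 : ℤ) = ((4 : ℕ) : ℤ) from rfl, zpow_natCast, ← h.y_four, pow_orderOf_eq_one,
          one_zpow, inv_one]
      have h5 : x * e * (x * e) = 1 := by
        have h6 : (x * e * (a * a)⁻¹) * (x * e * (a * a)⁻¹) = 1 := by
          rw [← h4, conj_mul, hee, mul_one, mul_inv_cancel]
        rwa [hw.mul_mul_mul_comm, hw2, mul_one] at h6
      have hex : e * x * e⁻¹ = x⁻¹ := by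
        refine eq_inv_of_mul_eq_one_right ?_
        rw [inv_eq_of_mul_eq_one_right hee]
        calc x * (e * x * e) = x * e * (x * e) := by group
          _ = 1 := h5
      have hei' : e * i * e⁻¹ = i⁻¹ := by rw [hi, ← conj_pow, hex, inv_pow]
      have hai : Commute a i := by
        obtain ⟨j, hj⟩ := mem_zpowers_iff.1 hiy
        rw [← hj]; exact (show Commute a y from hay).zpow_right j
      rw [(hai.mul_left (hxcomm u hucx i hicx)).eq, mul_inv_cancel_right] at hei'
      exact hz1 (by rw [← hii]; exact mul_eq_one_iff_eq_inv.2 hei')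
    · -- `a` has order eight
      have h4 : a * a * (a * a) = z := by
        rw [← hl, ← zpow_add, show 2 * k + 1 + (2 * k + 1) = 2 * (2 * k + 1) by ring, zpow_mul,
          zpow_two, ← hzy, hzodd]
      have h5 : x * (a⁻¹ * x * a) = z := by
        have h6 : (x * a⁻¹) * (x * a⁻¹) = a * a := by rw [← htat, conj_mul, hta2]
        calc x * (a⁻¹ * x * a) = (x * a⁻¹) * (x * a⁻¹) * (a * a) := by group
          _ = z := by rw [h6, h4]
      have hσ : a⁻¹ * x * a ∈ zpowers x := by
        have h7 : a⁻¹ * x * a = x⁻¹ * z := by rw [← h5]; group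
        rw [h7]; exact mul_mem (inv_mem (mem_zpowers x)) hzcx
      have h6 : z ^ N = z := by
        have h7 := congrArg (· ^ N) h5
        simp only [(hxcomm x (mem_zpowers x) _ hσ).mul_pow] at h7
        have hsig : (a⁻¹ * x * a) ^ N = i := by
          have h8 := conj_pow (a := a⁻¹) (b := x) (i := N)
          rw [inv_inv] at h8
          have hai : Commute a i := by
            obtain ⟨j, hj⟩ := mem_zpowers_iff.1 hiy
            rw [← hj]; exact (show Commute a y from hay).zpow_right j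
          rw [h8, ← hi, hai.inv_left.eq, inv_mul_cancel_right]
        rw [hsig, ← hi, hii] at h7
        exact h7.symm
      have hm : m = 2 := by
        by_contra hne
        refine hz1 ?_
        rw [← h6, hN, show m - 2 = (m - 3) + 1 by omega, pow_succ', pow_mul, sq, hzz, one_pow]
      have hix : i = x := by rw [hi, hN, hm, Nat.sub_self, pow_zero, pow_one]
      have hd : a⁻¹ * (t * a * t⁻¹) ∈ V := by
        rw [htat]
        have hxy : x ∈ zpowers y := hix ▸ hiy
        obtain ⟨j, hj⟩ := mem_zpowers_iff.1 hxy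
        have hxi : x = y ∨ x = y⁻¹ := by
          rcases hyi with h7 | h7
          · exact Or.inl (hix.symm.trans h7.symm)
          · exact Or.inr (by rw [h7, inv_inv, hix])
        have h7 : a⁻¹ * (x * a⁻¹) = x * (a * a)⁻¹ := by
          have h8 : Commute a⁻¹ x := by
            rw [← hj]; exact ((show Commute a y from hay).zpow_right j).inv_left
          rw [← mul_assoc, h8.eq, _root_.mul_inv_rev a a, mul_assoc]
        rw [h7, ← hl]
        rcases hxi with h8 | h8 <;> rw [h8]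
        · have h9 : y * (y ^ (2 * k + 1))⁻¹ = (z ^ k)⁻¹ := by
            rw [hzy, ← zpow_two, ← zpow_mul, zpow_add, zpow_one]; group
          rw [h9]; exact inv_mem (zpow_mem hzV k)
        · have h9 : y⁻¹ * (y ^ (2 * k + 1))⁻¹ = (z ^ (k + 1))⁻¹ := by
            rw [hzy, ← zpow_two, ← zpow_mul, show 2 * (k + 1) = 2 * k + 1 + 1 by ring, zpow_add _ (2 * k + 1),
              zpow_one, _root_.mul_inv_rev]
          rw [h9]; exact inv_mem (zpow_mem hzV _)
      rcases hWfix a haS hd with h7 | h7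
      · exact hnot 1 (one_mem _) a h7 (one_mul a).symm
      · exact hnot y hycx _ h7 (by group)
  have hai : a * i * a⁻¹ = i⁻¹ := (hat i hicx).trans hti
  have hasq : a * a = 1 ∨ a * a = z := by
    refine eq_of_involution hzcx hzo ha2 ?_
    by_contra hne
    obtain ⟨j, hj⟩ := mem_zpowers_iff.1
      (four_mem_zpowers (h.two_group.to_le (zpowers_le.2 hxS.2)) hzo hzcx hicx hii ha2 hne)
    have h1 : Commute a i := hj ▸
      (((Commute.refl a).mul_right (Commute.refl a)).zpow_right j)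
    rw [h1.eq, mul_inv_cancel_right] at hai
    exact hz1 (by rw [← hii]; exact mul_eq_one_iff_eq_inv.2 hai)
  have hyeq : y = i * v ∨ y = i⁻¹ * v := by
    have hfixed : t * i * t⁻¹ = i → False := fun h1 => by
      rw [hti] at h1
      exact hz1 (by rw [← hii]; nth_rewrite 1 [← h1]; rw [inv_mul_cancel])
    have htp : ∀ q, t * y = y * t → (q = y ∨ q = y * z) → t * q * t⁻¹ = q := by
      intro q hty hq
      have hc : Commute t q := by
        rcases hq with rfl | rfl
        · exact hty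
        · exact (show Commute t y from hty).mul_right (hzc t h.t_mem)
      rw [hc.eq, mul_inv_cancel_right]
    rcases hiV with h1 | h1 | h1 | h1
    · exact absurd (htp i h.y_comm (Or.inl (inv_mul_eq_one.1 h1).symm)) fun h2 => hfixed h2
    · exact absurd (htp i h.y_comm (Or.inr (inv_mul_eq_iff_eq_mul.1 h1))) fun h2 => hfixed h2
    · refine Or.inl ?_
      rw [inv_mul_eq_iff_eq_mul.1 h1, mul_assoc, hvv, mul_one]
    · refine Or.inr ?_
      have hiz : i⁻¹ = i * z := inv_eq_of_mul_eq_one_right (by rw [← mul_assoc, hii, hzz])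
      rw [hiz, inv_mul_eq_iff_eq_mul.1 h1, show y * (z * v) * z * v = y * z * (v * z) * v by group,
        hzvc, show y * z * (z * v) * v = y * (z * z) * (v * v) by group, hzz, hvv, mul_one, mul_one]
  exact Frame.false (t := t) ⟨hvS, hvv, hvcx, fun p hp => hzy ▸ hconj p hp,
    fun p hp => hzy ▸ hzc p hp, hxS, hxv, hicx, hii.trans hzy, hyeq, haS, ha_notcx, hav_notcx,
    hacx, hai, hzy ▸ hasq, hdecomp⟩ h

end CfsgLib.CyclicFour
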