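import Cfsg.Agent.CyclicFour.Frame
import Mathlib.GroupTheory.QuotientGroup.Basic

/-!
The fusion argument of the endgame: `v` lies outside a subgroup of index two containing none of
its conjugates.
-/

set_option autoImplicit false

open Subgroup

namespace CfsgLib.CyclicFour

open CfsgLib.RankOneFour

variable {G : Type*} [Group G] [Finite G] {A T : Subgroup G} {t y v x a i : G}

theorem Frame.conj_i (hF : Frame A T y v x a i) {c : G}
    (hc : c ∈ zpowers x ∨ ∃ e ∈ zpowers x, c = e * v) : Commute c i := by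
  rcases hc with hc | ⟨e, he, rfl⟩
  · exact hF.comm_cx hc hF.i_mem
  · exact (hF.comm_cx he hF.i_mem).mul_left (hF.comm_v hF.i_mem).symm

theorem Frame.fixed_cx (hF : Frame A T y v x a i) (h : Setting A T t y) {c : G}
    (hc : c ∈ zpowers x) (hca : a * c = c * a) : c = 1 ∨ c = y * y := by
  obtain ⟨hzo, hzz, hz1⟩ := pow_four_of_orderOf h.y_four
  refine eq_of_involution hF.z_mem hzo hc ?_
  by_contra hc2
  obtain ⟨l, hl⟩ := mem_zpowers_iff.1 (four_mem_zpowers
    (h.two_group.to_le (zpowers_le.2 hF.x_mem.2)) hzo hF.z_mem hF.i_mem hF.i_sq hc hc2)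
  have h1 : a * i * a⁻¹ = i := by
    rw [← hl, ← conj_zpow, hca, mul_inv_cancel_right]
  rw [hF.a_inv] at h1
  refine hz1 ?_
  rw [← hF.i_sq]
  nth_rewrite 1 [← h1]
  rw [inv_mul_cancel]

theorem Frame.a_sq_mem (hF : Frame A T y v x a i) : a * a ∈ zpowers x := by
  rcases hF.a_sq with h | h <;> rw [h]
  · exact one_mem _
  · exact hF.z_mem

theorem Frame.sq_mem (hF : Frame A T y v x a i) {s : G} (hs : s ∈ A ⊓ T) :
    s * s ∈ zpowers x := by
  have hainv : ∀ c ∈ zpowers x, a⁻¹ * c * a ∈ zpowers x := by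
    intro c hc
    have h1 : a * (a * c * a⁻¹) * a⁻¹ = c := by
      have h2 : a * (a * c * a⁻¹) * a⁻¹ = (a * a) * c * (a * a)⁻¹ := by group
      rw [h2, (hF.comm_cx hF.a_sq_mem hc).eq, mul_inv_cancel_right]
    have h3 : a⁻¹ * c * a = a * c * a⁻¹ := by
      conv_lhs => rw [← h1]
      group
    rw [h3]; exact hF.a_norm c hc
  obtain ⟨c, hc, rfl | rfl | rfl | rfl⟩ := hF.decomp s hs
  · exact mul_mem hc hc
  · rw [show c * v * (c * v) = c * (v * c) * v by group, ← (hF.comm_v hc).eq,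
      show c * (c * v) * v = c * c * (v * v) by group, hF.v_sq, mul_one]
    exact mul_mem hc hc
  · rw [show a * c * (a * c) = (a * a) * (a⁻¹ * c * a) * c by group]
    exact mul_mem (mul_mem hF.a_sq_mem (hainv c hc)) hc
  · have h1 : a⁻¹ * v * a = v ∨ a⁻¹ * v * a = y * y * v := by
      simpa using hF.v_conj a⁻¹ (inv_mem hF.a_mem.2)
    rw [show a * (c * v) * (a * (c * v)) = (a * a) * (a⁻¹ * c * a) * ((a⁻¹ * v * a) * c * v) by group]
    refine mul_mem (mul_mem hF.a_sq_mem (hainv c hc)) ?_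
    rcases h1 with h2 | h2 <;> rw [h2]
    · rw [← (hF.comm_v hc).eq, mul_assoc, hF.v_sq, mul_one]; exact hc
    · rw [mul_assoc (y * y) v c, ← (hF.comm_v hc).eq, mul_assoc (y * y), mul_assoc c v v, hF.v_sq,
        mul_one]
      exact mul_mem hF.z_mem hc

theorem Frame.not_conj_z (hF : Frame A T y v x a i) (h : Setting A T t y) {u w : G}
    (hw : w ∈ A ⊓ T) (hwu : w * u = u * w) (hw2 : w * w = y * y) (hu : u ≠ y * y)
    {b : G} (hb : b ∈ A) : b * u * b⁻¹ ≠ y * y := by
  obtain ⟨hzo, hzz, hz1⟩ := pow_four_of_orderOf h.y_four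
  exact not_conj_of_sqrt (h.two_group.to_le inf_le_right) inf_le_left h.max_inf
    (fun p hp => hF.z_central p hp.2)
    (fun p hp h1 h2 => (eq_of_involution hF.z_mem hzo (hF.sq_mem hp) h1).resolve_left h2)
    hzz hz1 hw hwu hw2 hu hb

/-- `u` is conjugate to `v` in `A`. -/
def IsConjV (A : Subgroup G) (v u : G) : Prop := ∃ b ∈ A, b * v * b⁻¹ = u

omit [Finite G] in
theorem IsConjV.sq {u : G} (hv : v * v = 1) (hu : IsConjV A v u) : u * u = 1 := by
  obtain ⟨b, -, rfl⟩ := hu
  rw [conj_mul, hv, mul_one, mul_inv_cancel]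

omit [Finite G] in
theorem IsConjV.conj {u b : G} (hb : b ∈ A) (hu : IsConjV A v u) :
    IsConjV A v (b * u * b⁻¹) := by
  obtain ⟨c, hc, rfl⟩ := hu
  exact ⟨b * c, mul_mem hb hc, by group⟩

theorem Frame.commute_yv (hF : Frame A T y v x a i) : Commute y v := by
  rcases hF.y_eq with h | h <;> rw [h]
  · exact (hF.comm_v hF.i_mem).mul_left (Commute.refl v)
  · exact (hF.comm_v (inv_mem hF.i_mem)).mul_left (Commute.refl v)

theorem Frame.v_ne_z (hF : Frame A T y v x a i) : v ≠ y * y :=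
  fun h => hF.v_notMem (h ▸ hF.z_mem)

theorem Frame.conjV_ne_z (hF : Frame A T y v x a i) (h : Setting A T t y) :
    ¬ IsConjV A v (y * y) := by
  rintro ⟨b, hb, hbv⟩
  exact hF.not_conj_z h h.y_mem hF.commute_yv.eq rfl hF.v_ne_z hb hbv

theorem Frame.zv_conj_ne_z (hF : Frame A T y v x a i) (h : Setting A T t y) {b : G} (hb : b ∈ A) :
    b * (y * y * v) * b⁻¹ ≠ y * y := by
  refine hF.not_conj_z h h.y_mem
    (((Commute.refl y).mul_right (Commute.refl y)).mul_right hF.commute_yv).eq rfl (fun h1 => ?_) hb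
  have hv1 : v = 1 := by simpa using h1
  exact hF.v_notMem (hv1 ▸ one_mem _)

/-- An element of the coset `a` is moved by `y` to its product with the central involution. -/
theorem Frame.coset_y (hF : Frame A T y v x a i) (h : Setting A T t y) (hlam : a * v = v * a) {d : G}
    (hd : d ∈ zpowers x ∨ ∃ c ∈ zpowers x, d = c * v) :
    y * (a * d) * y⁻¹ = y * y * (a * d) := by
  have hdy : Commute d y := by
    have hdv : Commute d v := by
      rcases hd with hd | ⟨c, hc, rfl⟩
      · exact hF.comm_v hd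
      · exact (hF.comm_v hc).mul_left (Commute.refl v)
    rcases hF.y_eq with h1 | h1 <;> rw [h1]
    · exact (hF.conj_i hd).mul_right hdv
    · exact (hF.conj_i hd).inv_right.mul_right hdv
  have hay : a * y * a⁻¹ = y⁻¹ := by
    have hva : a * v * a⁻¹ = v := by rw [hlam, mul_inv_cancel_right]
    have hvi : v⁻¹ = v := inv_eq_of_mul_eq_one_right hF.v_sq
    rcases hF.y_eq with h1 | h1 <;> rw [h1]
    · rw [← conj_mul, hF.a_inv, hva, _root_.mul_inv_rev, hvi, (hF.comm_v (inv_mem hF.i_mem)).eq]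
    · rw [← conj_mul, hva, _root_.mul_inv_rev, inv_inv, hvi,
        show a * i⁻¹ * a⁻¹ = (a * i * a⁻¹)⁻¹ by group, hF.a_inv, inv_inv, (hF.comm_v hF.i_mem).eq]
  have h2 : y⁻¹ * a = a * y := by rw [← hay]; group
  calc y * (a * d) * y⁻¹ = y * y * (y⁻¹ * a) * d * y⁻¹ := by group
    _ = y * y * a * (d * y) * y⁻¹ := by rw [h2, hdy.eq]; group
    _ = y * y * (a * d) := by group

/-- If `v` is central in `A ⊓ T`, it is not conjugate to `y * y * v`. -/
theorem Frame.not_conjV_zv (hF : Frame A T y v x a i) (h : Setting A T t y)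
    (hlam : a * v = v * a) : ¬ IsConjV A v (y * y * v) := by
  haveI : Fact (Nat.Prime 2) := ⟨Nat.prime_two⟩
  obtain ⟨hzo, hzz, hz1⟩ := pow_four_of_orderOf h.y_four
  set z := y * y with hz
  have hvS : ∀ s ∈ A ⊓ T, s * v = v * s := by
    intro s hs
    obtain ⟨c, hc, rfl | rfl | rfl | rfl⟩ := hF.decomp s hs
    · exact (hF.comm_v hc).eq
    · exact ((hF.comm_v hc).mul_left (Commute.refl v)).eq
    · exact ((show Commute a v from hlam).mul_left (hF.comm_v hc)).eq
    · exact ((show Commute a v from hlam).mul_left ((hF.comm_v hc).mul_left (Commute.refl v))).eq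
  rintro ⟨b, hb, hbv⟩
  set K := A ⊓ centralizer ({z * v} : Set G) with hK
  have hSK : A ⊓ T ≤ K := fun s hs => ⟨hs.1, mem_centralizer_singleton_iff.2
    ((show Commute s z from hF.z_central s hs.2).mul_right (hvS s hs)).eq⟩
  have hST : IsPGroup 2 (A ⊓ T : Subgroup G) := h.two_group.to_le inf_le_right
  obtain ⟨k, hk, hkS⟩ := exists_conj_into hST hSK
    (fun P hP hPK => h.max_inf P hP (hPK.trans inf_le_left))
    (hST.map (MulAut.conj b).toMonoidHom) (by
      rintro _ ⟨s, hs, rfl⟩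
      show b * s * b⁻¹ ∈ K
      refine ⟨A.mul_mem (A.mul_mem hb hs.1) (A.inv_mem hb), mem_centralizer_singleton_iff.2 ?_⟩
      rw [← hbv, conj_mul, conj_mul, hvS s hs])
  set n := k * b with hn
  have hnA : n ∈ A := mul_mem hk.1 hb
  have hnS : ∀ s ∈ A ⊓ T, n * s * n⁻¹ ∈ A ⊓ T := by
    intro s hs
    have h1 := hkS (b * s * b⁻¹) ⟨s, hs, rfl⟩
    have h2 : n * s * n⁻¹ = k * (b * s * b⁻¹) * k⁻¹ := by rw [hn]; group
    rwa [h2]
  have hnv : n * v * n⁻¹ = z * v := by
    have h2 : n * v * n⁻¹ = k * (b * v * b⁻¹) * k⁻¹ := by rw [hn]; group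
    rw [h2, hbv]
    exact mul_inv_eq_iff_eq_mul.2 (mem_centralizer_singleton_iff.1 hk.2)
  have hnz : n * z * n⁻¹ = z := by
    refine (eq_of_involution hF.z_mem hzo ?_ (by rw [conj_mul, hzz, mul_one, mul_inv_cancel])).resolve_left
      fun h1 => hz1 (conj_eq_one_iff.1 h1)
    rw [hz, ← conj_mul]
    exact hF.sq_mem (hnS y h.y_mem)
  have hnn : n * n * v * (n * n)⁻¹ = v := by
    calc n * n * v * (n * n)⁻¹ = n * (n * v * n⁻¹) * n⁻¹ := by group
      _ = (n * z * n⁻¹) * (n * v * n⁻¹) := by nth_rewrite 1 [hnv]; group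
      _ = v := by rw [hnz, hnv, ← mul_assoc, hzz, one_mul]
  -- an odd power of `n` lies in `A ⊓ T`
  obtain ⟨e, m, hm, hem⟩ := Nat.exists_eq_two_pow_mul_odd (orderOf_pos n).ne'
  have hnN : n ∈ normalizer ((A ⊓ T : Subgroup G) : Set G) := mem_normalizer_of_forall_conj hnS
  have hpN : zpowers (n ^ m) ≤ normalizer ((A ⊓ T : Subgroup G) : Set G) :=
    zpowers_le.2 (pow_mem hnN m)
  have hp2 : IsPGroup 2 (zpowers (n ^ m)) := by
    refine IsPGroup.of_card (n := e) ?_
    rw [Nat.card_zpowers, orderOf_pow_of_dvd (by rintro rfl; exact Nat.not_odd_zero hm) (hem ▸ Dvd.intro_left _ rfl),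
      hem, Nat.mul_div_cancel _ (Nat.pos_of_ne_zero (by rintro rfl; exact Nat.not_odd_zero hm))]
  have hle : zpowers (n ^ m) ≤ A ⊓ T := by
    have h1 := h.max_inf ((A ⊓ T) ⊔ zpowers (n ^ m)) (hST.to_sup_of_normal_left' hp2 hpN)
      (sup_le inf_le_left (zpowers_le.2 (pow_mem hnA m)))
    rw [eq_of_le_of_card_ge (le_sup_left : A ⊓ T ≤ (A ⊓ T) ⊔ zpowers (n ^ m)) h1]
    exact le_sup_right
  obtain ⟨l, rfl⟩ := hm
  have h1 : n ^ (2 * l + 1) * v = v * n ^ (2 * l + 1) := hvS _ (hle (mem_zpowers _))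
  have h2 : (n * n) ^ l * v = v * (n * n) ^ l :=
    ((show Commute (n * n) v from mul_inv_eq_iff_eq_mul.1 hnn).pow_left l).eq
  rw [pow_succ', pow_mul, sq] at h1
  have h3 : n * v = v * n := by
    have h4 : n * v * (n * n) ^ l = v * n * (n * n) ^ l := by
      rw [mul_assoc n v, ← h2, ← mul_assoc, h1, ← mul_assoc]
    exact mul_right_cancel h4
  rw [h3, mul_inv_cancel_right] at hnv
  exact hz1 (by simpa using hnv.symm)

/-- An involution `u` of the coset of `a` and `u * v` are not both conjugate to `v`. -/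
theorem Frame.not_both (hF : Frame A T y v x a i) (h : Setting A T t y) (hu : IsConjV A v a) :
    ¬ IsConjV A v (a * v) := by
  haveI : Fact (Nat.Prime 2) := ⟨Nat.prime_two⟩
  obtain ⟨hzo, hzz, hz1⟩ := pow_four_of_orderOf h.y_four
  intro huv
  have haa : a * a = 1 := hu.sq hF.v_sq
  have hai : a⁻¹ = a := inv_eq_of_mul_eq_one_right haa
  rcases hF.v_conj a hF.a_mem.2 with hlam | hlam
  swap
  · refine hz1 ?_
    rw [← huv.sq hF.v_sq]
    calc y * y = a * v * a⁻¹ * v⁻¹ := by rw [hlam, mul_inv_cancel_right]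
      _ = a * v * (a * v) := by rw [hai, inv_eq_of_mul_eq_one_right hF.v_sq]; group
  have hlam' : a * v = v * a := mul_inv_eq_iff_eq_mul.1 hlam
  have hzv := hF.not_conjV_zv h hlam'
  set z := y * y with hz
  have hvS : ∀ s ∈ A ⊓ T, s * v = v * s := by
    intro s hs
    obtain ⟨c, hc, rfl | rfl | rfl | rfl⟩ := hF.decomp s hs
    · exact (hF.comm_v hc).eq
    · exact ((hF.comm_v hc).mul_left (Commute.refl v)).eq
    · exact ((show Commute a v from hlam').mul_left (hF.comm_v hc)).eq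
    · exact ((show Commute a v from hlam').mul_left ((hF.comm_v hc).mul_left (Commute.refl v))).eq
  obtain ⟨b, hb, hbv⟩ := id hu
  -- move `⟨a, z, v⟩` so that `a` goes to `v`
  set E := closure ({a, z, v} : Set G) with hE
  have hES : E ≤ A ⊓ T := (closure_le _).2 (by
    rintro q (rfl | rfl | rfl)
    · exact hF.a_mem
    · exact hF.cx_le hF.z_mem
    · exact hF.v_mem)
  have haz : a * z = z * a := hF.z_central a hF.a_mem.2
  have hEa : ∀ q ∈ E, a * q = q * a := fun q hq => by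
    refine closure_induction (p := fun q _ => Commute a q) ?_ (Commute.one_right a)
      (fun _ _ _ _ h1 h2 => h1.mul_right h2) (fun _ _ h1 => h1.inv_right) hq
    rintro q (rfl | rfl | rfl)
    · rfl
    · exact haz
    · exact hlam'
  have hST : IsPGroup 2 (A ⊓ T : Subgroup G) := h.two_group.to_le inf_le_right
  have hSK : A ⊓ T ≤ A ⊓ centralizer ({v} : Set G) := fun s hs =>
    ⟨hs.1, mem_centralizer_singleton_iff.2 (hvS s hs)⟩
  have hba : b⁻¹ * a * b = v := by rw [← hbv]; group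
  obtain ⟨k, hk, hkS⟩ := exists_conj_into hST hSK
    (fun P hP hPK => h.max_inf P hP (hPK.trans inf_le_left))
    ((hST.to_le hES).map (MulAut.conj b⁻¹).toMonoidHom) (by
      rintro _ ⟨q, hq, rfl⟩
      show b⁻¹ * q * b⁻¹⁻¹ ∈ A ⊓ centralizer ({v} : Set G)
      refine ⟨A.mul_mem (A.mul_mem (A.inv_mem hb) (hES hq).1) (A.inv_mem (A.inv_mem hb)),
        mem_centralizer_singleton_iff.2 ?_⟩
      have hba' : b⁻¹ * a * b⁻¹⁻¹ = v := by rw [inv_inv]; exact hba
      rw [← hba', conj_mul, conj_mul, hEa q hq])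
  set g := k * b⁻¹ with hg
  have hgA : g ∈ A := mul_mem hk.1 (inv_mem hb)
  have hgS : ∀ q ∈ E, g * q * g⁻¹ ∈ A ⊓ T := fun q hq => by
    have h1 := hkS (b⁻¹ * q * b⁻¹⁻¹) ⟨q, hq, rfl⟩
    have h2 : g * q * g⁻¹ = k * (b⁻¹ * q * b⁻¹⁻¹) * k⁻¹ := by rw [hg]; group
    rwa [h2]
  have hga : g * a * g⁻¹ = v := by
    calc g * a * g⁻¹ = k * (b⁻¹ * a * b) * k⁻¹ := by rw [hg]; group
      _ = v := by rw [hba]; exact mul_inv_eq_iff_eq_mul.2 (mem_centralizer_singleton_iff.1 hk.2)
  set p := g * v * g⁻¹ with hp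
  set q := g * z * g⁻¹ with hq
  have hpS : p ∈ A ⊓ T := hgS v (subset_closure (by simp))
  have hqS : q ∈ A ⊓ T := hgS z (subset_closure (by simp))
  have hpp : p * p = 1 := by rw [hp, conj_mul, hF.v_sq, mul_one, mul_inv_cancel]
  have hqq : q * q = 1 := by rw [hq, conj_mul, hzz, mul_one, mul_inv_cancel]
  have hpq : p * q = q * p := by rw [hp, hq, conj_mul, conj_mul, hF.z_central v hF.v_mem.2]
  have hvp : IsConjV A v p := ⟨g, hgA, rfl⟩
  have hzconj : ∀ w, g * w * g⁻¹ = v → w = a := fun w hw =>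
    (MulAut.conj g).injective (hw.trans hga.symm)
  have hva : v ≠ a := fun h1 => hF.av_notMem (by
    rw [← h1, hF.v_sq]; exact one_mem _)
  -- classification of the involutions of `A ⊓ T`
  have hclass : ∀ w ∈ A ⊓ T, w * w = 1 → w ≠ 1 → w = z ∨ w = v ∨ w = z * v ∨
      ∃ d, (d ∈ zpowers x ∨ ∃ c ∈ zpowers x, d = c * v) ∧ w = a * d := by
    intro w hw hww hw1
    obtain ⟨c, hc, rfl | rfl | rfl | rfl⟩ := hF.decomp w hw
    · exact Or.inl ((eq_of_involution hF.z_mem hzo hc hww).resolve_left hw1)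
    · have hcc : c * c = 1 := by
        rw [← hww, show c * v * (c * v) = c * (v * c) * v by group, ← (hF.comm_v hc).eq,
          show c * (c * v) * v = c * c * (v * v) by group, hF.v_sq, mul_one]
      rcases eq_of_involution hF.z_mem hzo hc hcc with h1 | h1 <;> rw [h1]
      · exact Or.inr (Or.inl (one_mul v))
      · exact Or.inr (Or.inr (Or.inl rfl))
    · exact Or.inr (Or.inr (Or.inr ⟨c, Or.inl hc, rfl⟩))
    · exact Or.inr (Or.inr (Or.inr ⟨c * v, Or.inr ⟨c, hc, rfl⟩, rfl⟩))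
  have hqv : q ≠ v := fun h1 => hF.a_notMem (hzconj z h1 ▸ hF.z_mem)
  have hp1 : p ≠ 1 := fun h1 => hF.v_notMem (by
    rw [conj_eq_one_iff.1 h1]; exact one_mem _)
  have hq1 : q ≠ 1 := fun h1 => hz1 (conj_eq_one_iff.1 h1)
  have hqzv : q ≠ z * v := fun h1 => by
    refine hF.zv_conj_ne_z h (inv_mem hgA) ?_
    rw [← h1, hq, inv_inv]; simp only [hz]; group
  obtain ⟨d, hd, hpd⟩ : ∃ d, (d ∈ zpowers x ∨ ∃ c ∈ zpowers x, d = c * v) ∧ p = a * d := by
    rcases hclass p hpS hpp hp1 with h1 | h1 | h1 | h1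
    · exact absurd (show IsConjV A v z from h1 ▸ hvp) (hF.conjV_ne_z h)
    · exact absurd (hzconj v h1) hva
    · exact absurd (h1 ▸ hvp) hzv
    · exact h1
  have hpy : y * p * y⁻¹ = z * p := hpd ▸ hF.coset_y h hlam' hd
  rcases hclass q hqS hqq hq1 with h1 | h1 | h1 | ⟨d', hd', hqd⟩
  · -- `z * v` goes to `z * p`
    refine hzv ?_
    have h2 : IsConjV A v (y * p * y⁻¹) := hvp.conj h.y_mem.1
    rw [hpy] at h2
    have h4 : g⁻¹ * (z * p) * g⁻¹⁻¹ = z * v := by
      calc g⁻¹ * (z * p) * g⁻¹⁻¹ = g⁻¹ * (q * p) * g⁻¹⁻¹ := by rw [h1]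
        _ = z * v := by rw [hq, hp]; group
    exact h4 ▸ h2.conj (inv_mem hgA)
  · exact hqv h1
  · exact hqzv h1
  have hqy : y * q * y⁻¹ = z * q := hqd ▸ hF.coset_y h hlam' hd'
  have hpqinv : p * q * (p * q) = 1 := by
    calc p * q * (p * q) = p * (q * p) * q := by group
      _ = p * p * (q * q) := by rw [← hpq]; group
      _ = 1 := by rw [hpp, hqq, one_mul]
  by_cases hpq1 : p * q = 1
  · refine hF.v_ne_z ((MulAut.conj g).injective ?_)
    show p = q
    rw [eq_inv_of_mul_eq_one_left hpq1, inv_eq_of_mul_eq_one_right hqq]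
  rcases hclass _ (mul_mem hpS hqS) hpqinv hpq1 with h1 | h1 | h1 | ⟨d'', hd'', h1⟩
  · -- `q = z * p`
    refine hF.conjV_ne_z h ?_
    have h2 : IsConjV A v (y * p * y⁻¹) := hvp.conj h.y_mem.1
    have h3 : z * p = q := by
      rw [← h1, hpq, mul_assoc, hpp, mul_one]
    rw [hpy, h3] at h2
    have h4 : g⁻¹ * q * g⁻¹⁻¹ = z := by rw [hq]; group
    show IsConjV A v z
    rw [← h4]; exact h2.conj (inv_mem hgA)
  · refine hzv ⟨g⁻¹, inv_mem hgA, ?_⟩
    calc g⁻¹ * v * g⁻¹⁻¹ = g⁻¹ * (p * q) * g⁻¹⁻¹ := by rw [h1]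
      _ = v * z := by rw [hp, hq]; group
      _ = z * v := hF.z_central v hF.v_mem.2
  · -- `v * p = z * q`
    refine hF.conjV_ne_z h ?_
    have h2 : IsConjV A v (g * (a * v) * g⁻¹) := huv.conj hgA
    have h3 : g * (a * v) * g⁻¹ = z * q := by
      rw [← conj_mul, hga, ← hp]
      have hvz : v = z * (p * q) := by rw [h1, ← mul_assoc, hzz, one_mul]
      calc v * p = z * (p * q) * p := by rw [← hvz]
        _ = z * (q * p * p) := by rw [hpq]; group
        _ = z * q := by rw [mul_assoc q, hpp, mul_one]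
    rw [h3, ← hqy] at h2
    have h4 : (y * g)⁻¹ * (y * q * y⁻¹) * (y * g)⁻¹⁻¹ = z := by rw [hq]; group
    show IsConjV A v z
    rw [← h4]; exact h2.conj (inv_mem (mul_mem h.y_mem.1 hgA))
  · -- `p * q` is not in the coset of `a`
    have hout : ∀ d₁ d₂, (d₁ ∈ zpowers x ∨ ∃ c ∈ zpowers x, d₁ = c * v) →
        (d₂ ∈ zpowers x ∨ ∃ c ∈ zpowers x, d₂ = c * v) →
        d₁ * d₂ ∈ zpowers x ∨ d₁ * d₂ * v ∈ zpowers x := by
      rintro d₁ d₂ (h₁ | ⟨c₁, h₁, rfl⟩) (h₂ | ⟨c₂, h₂, rfl⟩)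
      · exact Or.inl (mul_mem h₁ h₂)
      · exact Or.inr (by
          rw [show d₁ * (c₂ * v) * v = d₁ * c₂ * (v * v) by group, hF.v_sq, mul_one]
          exact mul_mem h₁ h₂)
      · exact Or.inr (by
          rw [show c₁ * v * d₂ * v = c₁ * (v * d₂) * v by group, ← (hF.comm_v h₂).eq,
            show c₁ * (d₂ * v) * v = c₁ * d₂ * (v * v) by group, hF.v_sq, mul_one]
          exact mul_mem h₁ h₂)
      · exact Or.inl (by
          rw [show c₁ * v * (c₂ * v) = c₁ * (v * c₂) * v by group, ← (hF.comm_v h₂).eq,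
            show c₁ * (c₂ * v) * v = c₁ * c₂ * (v * v) by group, hF.v_sq, mul_one]
          exact mul_mem h₁ h₂)
    have hnorm : ∀ d₁, (d₁ ∈ zpowers x ∨ ∃ c ∈ zpowers x, d₁ = c * v) →
        (a * d₁ * a⁻¹ ∈ zpowers x ∨ ∃ c ∈ zpowers x, a * d₁ * a⁻¹ = c * v) := by
      rintro d₁ (h₁ | ⟨c₁, h₁, rfl⟩)
      · exact Or.inl (hF.a_norm _ h₁)
      · exact Or.inr ⟨_, hF.a_norm _ h₁, by rw [← conj_mul, hlam]⟩
    have hinv : ∀ d₁, (d₁ ∈ zpowers x ∨ ∃ c ∈ zpowers x, d₁ = c * v) →
        (d₁⁻¹ ∈ zpowers x ∨ ∃ c ∈ zpowers x, d₁⁻¹ = c * v) := by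
      rintro d₁ (h₁ | ⟨c₁, h₁, rfl⟩)
      · exact Or.inl (inv_mem h₁)
      · exact Or.inr ⟨c₁⁻¹, inv_mem h₁, by
          rw [_root_.mul_inv_rev, inv_eq_of_mul_eq_one_right hF.v_sq, (hF.comm_v (inv_mem h₁)).eq]⟩
    have h2 : p * q = (a * d * a⁻¹) * d' := by
      calc p * q = (a * d) * (a * d') := by rw [hpd, hqd]
        _ = (a * d) * (a⁻¹ * d') := by rw [hai]
        _ = _ := by group
    have h3 : a = (p * q) * d''⁻¹ := by rw [h1, mul_inv_cancel_right]
    rcases hout _ _ (hnorm d hd) hd' with h4 | h4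
    · rcases hout _ _ (Or.inl (h2 ▸ h4)) (hinv d'' hd'') with h5 | h5
      · exact hF.a_notMem (h3 ▸ h5)
      · exact hF.av_notMem (h3 ▸ h5)
    · have h5 : p * q ∈ zpowers x ∨ ∃ c ∈ zpowers x, p * q = c * v :=
        Or.inr ⟨_, h4, by rw [h2, mul_assoc _ v v, hF.v_sq, mul_one]⟩
      rcases hout _ _ h5 (hinv d'' hd'') with h6 | h6
      · exact hF.a_notMem (h3 ▸ h6)
      · exact hF.av_notMem (h3 ▸ h6)

/-- Either no conjugate of `v` lies in the coset of `a`, or `a` is one. -/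
theorem Frame.false_aux {A T : Subgroup G} {t y v x a i : G} (hF : Frame A T y v x a i) (h : Setting A T t y)
    (hcase : (¬ ∃ d, (d ∈ zpowers x ∨ ∃ c ∈ zpowers x, d = c * v) ∧ IsConjV A v (a * d)) ∨
      IsConjV A v a) : False := by
  haveI : Fact (Nat.Prime 2) := ⟨Nat.prime_two⟩
  classical
  obtain ⟨hzo, hzz, hz1⟩ := pow_four_of_orderOf h.y_four
  set S := A ⊓ T with hS
  have hxp : IsPGroup 2 (zpowers x) := h.two_group.to_le (zpowers_le.2 hF.x_mem.2)
  set N := zpowers (x * x) with hN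
  have hNx : N ≤ zpowers x := zpowers_le.2 (mul_mem (mem_zpowers x) (mem_zpowers x))
  have hsqN : ∀ c ∈ zpowers x, c * c ∈ N := fun c hc => by
    obtain ⟨j, hj⟩ := mem_zpowers_iff.1 hc
    rw [← hj, ← (Commute.refl x).mul_zpow]
    exact zpow_mem (mem_zpowers _) j
  have hzN : y * y ∈ N := hF.i_sq ▸ hsqN i hF.i_mem
  have hxN : x ∉ N := fun hx => by
    obtain ⟨l, hl⟩ := mem_zpowers_iff.1 hx
    have h1 : x ^ (2 * (l - 1) + 1) = 1 := by
      rw [(Commute.refl x).mul_zpow] at hl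
      rw [show 2 * (l - 1) + 1 = l + l + -1 by ring, zpow_add, zpow_add, hl, zpow_neg, zpow_one,
        mul_inv_cancel]
    have h2 := mem_zpowers_odd hxp (l - 1)
    rw [h1, zpowers_one_eq_bot, mem_bot] at h2
    have h3 := hNx hzN
    rw [h2, zpowers_one_eq_bot, mem_bot] at h3
    exact hz1 h3
  -- `N` is normal and all squares lie in it
  have haxN : ∀ c ∈ N, a * c * a⁻¹ ∈ N := fun c hc => by
    obtain ⟨l, rfl⟩ := mem_zpowers_iff.1 hc
    rw [← conj_zpow, ← conj_mul]
    exact zpow_mem (hsqN _ (hF.a_norm x (mem_zpowers x))) l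
  have hainv : ∀ c ∈ zpowers x, a⁻¹ * c * a = a * c * a⁻¹ := fun c hc => by
    have h2 : a * (a * c * a⁻¹) * a⁻¹ = c := by
      have h3 : a * (a * c * a⁻¹) * a⁻¹ = (a * a) * c * (a * a)⁻¹ := by group
      rw [h3, (hF.comm_cx hF.a_sq_mem hc).eq, mul_inv_cancel_right]
    conv_lhs => rw [← h2]
    group
  have hNn : ∀ s ∈ S, ∀ c ∈ N, s * c * s⁻¹ ∈ N := by
    intro s hs c hc
    obtain ⟨e, he, rfl | rfl | rfl | rfl⟩ := hF.decomp s hs
    · rw [(hF.comm_cx he (hNx hc)).eq, mul_inv_cancel_right]; exact hc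
    · rw [((hF.comm_cx he (hNx hc)).mul_left (hF.comm_v (hNx hc)).symm).eq, mul_inv_cancel_right]
      exact hc
    · rw [show a * e * c * (a * e)⁻¹ = a * (e * c * e⁻¹) * a⁻¹ by group,
        (hF.comm_cx he (hNx hc)).eq, mul_inv_cancel_right]
      exact haxN c hc
    · rw [show a * (e * v) * c * (a * (e * v))⁻¹ = a * (e * v * c * (e * v)⁻¹) * a⁻¹ by group,
        ((hF.comm_cx he (hNx hc)).mul_left (hF.comm_v (hNx hc)).symm).eq, mul_inv_cancel_right]
      exact haxN c hc
  let NS : Subgroup S := N.subgroupOf S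
  haveI : NS.Normal := ⟨fun c hc s => hNn s s.2 c hc⟩
  have hax : a * x * a⁻¹ * x ∈ N := by
    -- `a` raises `x` to an odd power
    obtain ⟨q, hq⟩ := mem_zpowers_iff.1 (hF.a_norm x (mem_zpowers x))
    rcases Int.even_or_odd' q with ⟨l, rfl | rfl⟩
    · exfalso
      have h1 : a * x * a⁻¹ ∈ N := by
        rw [← hq, zpow_mul, zpow_two]; exact zpow_mem (mem_zpowers _) l
      have h2 := hNn a⁻¹ (inv_mem hF.a_mem) _ h1
      have h3 : a⁻¹ * (a * x * a⁻¹) * a⁻¹⁻¹ = x := by group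
      exact hxN (h3 ▸ h2)
    · rw [← hq, ← zpow_add_one, show 2 * l + 1 + 1 = 2 * (l + 1) by ring, zpow_mul, zpow_two]
      exact zpow_mem (mem_zpowers _) _
  have hsigma : ∀ c ∈ zpowers x, a⁻¹ * c * a * c ∈ N := fun c hc => by
    rw [hainv c hc]
    obtain ⟨j, hj⟩ := mem_zpowers_iff.1 hc
    rw [← hj, ← conj_zpow, ← (hF.comm_cx (hF.a_norm x (mem_zpowers x)) (mem_zpowers x)).mul_zpow]
    exact zpow_mem hax j
  have hsqS : ∀ s ∈ S, s * s ∈ N := by
    intro s hs
    have haN : a * a ∈ N := by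
      rcases hF.a_sq with h1 | h1 <;> rw [h1]
      · exact one_mem _
      · exact hzN
    obtain ⟨c, hc, rfl | rfl | rfl | rfl⟩ := hF.decomp s hs
    · exact hsqN _ hc
    · rw [show c * v * (c * v) = c * (v * c) * v by group, ← (hF.comm_v hc).eq,
        show c * (c * v) * v = c * c * (v * v) by group, hF.v_sq, mul_one]
      exact hsqN _ hc
    · rw [show a * c * (a * c) = (a * a) * (a⁻¹ * c * a * c) by group]
      exact mul_mem haN (hsigma c hc)
    · have h1 : a⁻¹ * v * a = v ∨ a⁻¹ * v * a = y * y * v := by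
        simpa using hF.v_conj a⁻¹ (inv_mem hF.a_mem.2)
      rw [show a * (c * v) * (a * (c * v)) = (a * a) * ((a⁻¹ * c * a) * ((a⁻¹ * v * a) * c * v))
        by group]
      refine mul_mem haN ?_
      rcases h1 with h2 | h2 <;> rw [h2]
      · rw [← (hF.comm_v hc).eq, mul_assoc c v v, hF.v_sq, mul_one]
        exact hsigma c hc
      · rw [mul_assoc (y * y) v c, ← (hF.comm_v hc).eq, mul_assoc (y * y), mul_assoc c v v,
          hF.v_sq, mul_one, ← (hF.comm_cx hc hF.z_mem).eq, ← mul_assoc]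
        exact mul_mem (hsigma c hc) hzN
  let π : S →* S ⧸ NS := QuotientGroup.mk' NS
  have hexp : ∀ q : S ⧸ NS, q * q = 1 := fun q => by
    obtain ⟨s, rfl⟩ := QuotientGroup.mk'_surjective NS q
    rw [← map_mul, QuotientGroup.mk'_apply, QuotientGroup.eq_one_iff]
    exact hsqS s s.2
  have hcomm : ∀ p q : S ⧸ NS, p * q = q * p := fun p q => by
    have h1 := hexp (p * q)
    calc p * q = (p * q)⁻¹ := (inv_eq_of_mul_eq_one_right h1).symm
      _ = q⁻¹ * p⁻¹ := _root_.mul_inv_rev p q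
      _ = q * p := by
        rw [inv_eq_of_mul_eq_one_right (hexp q), inv_eq_of_mul_eq_one_right (hexp p)]
  have hker : ∀ s : S, π s = 1 ↔ (s : G) ∈ N := fun s => by
    rw [QuotientGroup.mk'_apply, QuotientGroup.eq_one_iff]; rfl
  set X : S ⧸ NS := π ⟨x, hF.x_mem⟩ with hX
  set Aq : S ⧸ NS := π ⟨a, hF.a_mem⟩ with hAq
  set V : S ⧸ NS := π ⟨v, hF.v_mem⟩ with hV
  -- the three classes are independent
  have eV : V ≠ 1 := fun h1 => hF.v_notMem (hNx ((hker _).1 h1))
  have eXV : X * V ≠ 1 := fun h1 => hF.v_notMem (by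
    rw [← map_mul, hker] at h1
    simpa using mul_mem (inv_mem (mem_zpowers x)) (hNx h1))
  have eX : X ≠ 1 := fun h1 => hxN ((hker _).1 h1)
  have eA : Aq ≠ 1 := fun h1 => hF.a_notMem (hNx ((hker _).1 h1))
  have eAV : Aq * V ≠ 1 := fun h1 => hF.av_notMem (by
    rw [← map_mul, hker] at h1; exact hNx h1)
  have eAX : Aq * X ≠ 1 := fun h1 => hF.a_notMem (by
    rw [← map_mul, hker] at h1
    simpa using mul_mem (hNx h1) (inv_mem (mem_zpowers x)))
  have eAXV : Aq * X * V ≠ 1 := fun h1 => hF.av_notMem (by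
    rw [← map_mul, ← map_mul, hker] at h1
    have h1' : a * x * v ∈ N := h1
    have h2 : a * v = a * x * v * x⁻¹ := by
      rw [mul_assoc a x v, hF.xv]; group
    rw [h2]; exact mul_mem (hNx h1') (inv_mem (mem_zpowers x)))
  -- the choice of the subgroup
  obtain ⟨P₁, Q₁, hP₁, hnot, hgen⟩ : ∃ P₁ Q₁ : S ⧸ NS, (V ≠ 1 ∧ V ≠ P₁ ∧ V ≠ Q₁ ∧ V ≠ P₁ * Q₁) ∧
      (∀ u ∈ S, IsConjV A v u → ∀ hu : u ∈ S, π ⟨u, hu⟩ ∉ ({1, P₁, Q₁, P₁ * Q₁} : Set (S ⧸ NS))) ∧
      (∀ c : S ⧸ NS, (c = X ∨ c = Aq ∨ c = V) →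
        c ∈ ({1, P₁, Q₁, P₁ * Q₁} : Set (S ⧸ NS)) ∨ c * V ∈ ({1, P₁, Q₁, P₁ * Q₁} : Set (S ⧸ NS))) := by
    -- position of an element conjugate to `v`
    have hconjx : ∀ k : ℤ, ∃ d ∈ zpowers x, ∀ r ∈ zpowers x, ∀ l : G, (l = 1 ∨ l = v) →
        d * (a * (x ^ (2 * k) * r * l)) * d⁻¹ = a * (r * l) := by
      intro k
      obtain ⟨d, hd, hdk⟩ := exists_comm_eq_sq (g := x) (z := y * y) (x := a⁻¹)
        (fun c hc => by rw [inv_inv, hainv c hc]; exact hF.a_norm c hc)
        (fun c hc hca => hF.fixed_cx h hc (by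
          have h8 := (show Commute c a⁻¹ from hca).inv_right
          rw [inv_inv] at h8
          exact h8.eq.symm))
        (h := x ^ k) (zpow_mem (mem_zpowers x) k)
      rw [inv_inv] at hdk
      refine ⟨d, hd, fun r hr l hl => ?_⟩
      have hdl : Commute d⁻¹ l := by
        rcases hl with rfl | rfl
        · exact Commute.one_right _
        · exact hF.comm_v (inv_mem hd)
      have h2 : x ^ (2 * k) = d * (a⁻¹ * d * a)⁻¹ := by
        rw [hdk, two_mul, zpow_add]
      rw [h2]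
      calc d * (a * (d * (a⁻¹ * d * a)⁻¹ * r * l)) * d⁻¹
          = d * a * (d * (a⁻¹ * d * a)⁻¹) * r * (l * d⁻¹) := by group
        _ = d * a * ((a⁻¹ * d * a)⁻¹ * d) * r * (d⁻¹ * l) := by
          have hcd : Commute d (a⁻¹ * d * a)⁻¹ :=
            (hF.comm_cx hd (by rw [hainv d hd]; exact hF.a_norm d hd)).inv_right
          rw [hcd.eq, hdl.eq]
        _ = a * (d * r) * (d⁻¹ * l) := by group
        _ = a * (r * l) := by rw [(hF.comm_cx hd hr).eq]; group
    have hpos : ∀ u ∈ S, IsConjV A v u → ∀ hu : u ∈ S,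
        π ⟨u, hu⟩ = V ∨
        ∃ r ∈ zpowers x, ∃ l, (r = 1 ∨ r = x) ∧ (l = 1 ∨ l = v) ∧ IsConjV A v (a * (r * l)) ∧
          π ⟨u, hu⟩ = Aq * ((if r = 1 then 1 else X) * (if l = 1 then 1 else V)) := by
      intro u huS huv hu
      obtain ⟨c, hc, hform⟩ := hF.decomp u huS
      obtain ⟨j, hj⟩ := mem_zpowers_iff.1 hc
      have hcoset : ∀ l, (l = 1 ∨ l = v) → u = a * (c * l) →
          ∃ r ∈ zpowers x, ∃ l, (r = 1 ∨ r = x) ∧ (l = 1 ∨ l = v) ∧ IsConjV A v (a * (r * l)) ∧
            π ⟨u, hu⟩ = Aq * ((if r = 1 then 1 else X) * (if l = 1 then 1 else V)) := by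
        intro l hl hul
        have hlS : l ∈ S := by
          rcases hl with rfl | rfl
          · exact one_mem _
          · exact hF.v_mem
        obtain ⟨k, r, hr01, hcr⟩ : ∃ k : ℤ, ∃ r, (r = 1 ∨ r = x) ∧ c = x ^ (2 * k) * r := by
          rcases Int.even_or_odd' j with ⟨k, rfl | rfl⟩
          · exact ⟨k, 1, Or.inl rfl, by rw [mul_one, hj]⟩
          · exact ⟨k, x, Or.inr rfl, by rw [← zpow_add_one, hj]⟩
        have hr : r ∈ zpowers x := by
          rcases hr01 with rfl | rfl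
          · exact one_mem _
          · exact mem_zpowers _
        obtain ⟨d, hd, hdconj⟩ := hconjx k
        have h1 : d * u * d⁻¹ = a * (r * l) := by
          rw [hul, hcr]; exact hdconj r hr l hl
        refine ⟨r, hr, l, hr01, hl, h1 ▸ huv.conj (hF.cx_le hd).1, ?_⟩
        have hdS : d ∈ S := hF.cx_le hd
        have h2 : (⟨d, hdS⟩ : S) * ⟨u, hu⟩ * (⟨d, hdS⟩ : S)⁻¹ =
            ⟨a, hF.a_mem⟩ * (⟨r, hF.cx_le hr⟩ * ⟨l, hlS⟩) := Subtype.ext h1
        have h3 := congrArg π h2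
        rw [map_mul, map_mul, map_mul, map_mul, map_inv, hcomm, ← mul_assoc, inv_mul_cancel,
          one_mul] at h3
        rw [h3]
        congr 2
        · split_ifs with hr1
          · rw [← map_one π]; exact congrArg π (Subtype.ext hr1)
          · rw [hX]; exact congrArg π (Subtype.ext (hr01.resolve_left hr1))
        · split_ifs with hl1
          · rw [← map_one π]; exact congrArg π (Subtype.ext hl1)
          · rw [hV]; exact congrArg π (Subtype.ext (hl.resolve_left hl1))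
      have huu := huv.sq hF.v_sq
      rcases hform with h1 | h1 | h1 | h1
      · exfalso
        rcases eq_of_involution hF.z_mem hzo (h1 ▸ hc) huu with h2 | h2
        · obtain ⟨b, -, hb⟩ := huv
          rw [h2] at hb
          exact hF.v_notMem (conj_eq_one_iff.1 hb ▸ one_mem _)
        · exact hF.conjV_ne_z h (h2 ▸ huv)
      · left
        have hcc : c * c = 1 := by
          rw [← huu, h1, show c * v * (c * v) = c * (v * c) * v by group, ← (hF.comm_v hc).eq,
            show c * (c * v) * v = c * c * (v * v) by group, hF.v_sq, mul_one]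
        have hcS : c ∈ S := hF.cx_le hc
        have h2 : (⟨u, hu⟩ : S) = ⟨c, hcS⟩ * ⟨v, hF.v_mem⟩ := Subtype.ext h1
        have h3 : π ⟨c, hcS⟩ = 1 := by
          rw [hker]
          rcases eq_of_involution hF.z_mem hzo hc hcc with h4 | h4 <;> show c ∈ N <;> rw [h4]
          · exact one_mem _
          · exact hzN
        rw [h2, map_mul, h3, one_mul]
      · exact Or.inr (hcoset 1 (Or.inl rfl) (by rw [h1, mul_one]))
      · exact Or.inr (hcoset v (Or.inr rfl) h1)
    have hvne1 : v ≠ 1 := fun h1 => hF.v_notMem (h1 ▸ one_mem _)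
    have hxne1 : x ≠ 1 := fun h1 => hxN (h1 ▸ one_mem _)
    have hXX := hexp X
    have hVV := hexp V
    have hAA := hexp Aq
    -- facts in the quotient
    have mulV : ∀ p q : S ⧸ NS, V = p * q → p * q * V = 1 := fun p q hpq => by rw [← hpq, hVV]
    have cancel : ∀ p q : S ⧸ NS, p = q → p * q = 1 := fun p q hpq => by rw [hpq]; exact hexp q
    rcases hcase with hno | ha
    · refine ⟨X, Aq, ⟨eV, fun h1 => eXV ?_, fun h1 => eAV ?_, fun h1 => eAXV ?_⟩,
        fun u huS huv hu => ?_, fun c hc => ?_⟩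
      · rw [hcomm]; exact cancel _ _ h1
      · rw [hcomm]; exact cancel _ _ h1
      · rw [hcomm Aq X, hcomm]; exact cancel _ _ h1
      · rcases hpos u huS huv hu with h1 | ⟨r, hr, l, -, hl, hcl, -⟩
        · rw [h1]
          simp only [Set.mem_insert_iff, Set.mem_singleton_iff]
          rintro (h2 | h2 | h2 | h2)
          · exact eV h2
          · exact eXV (by rw [hcomm]; exact cancel _ _ h2)
          · exact eAV (by rw [hcomm]; exact cancel _ _ h2)
          · exact eAXV (by rw [hcomm Aq X, hcomm]; exact cancel _ _ h2)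
        · refine absurd ⟨r * l, ?_, hcl⟩ hno
          rcases hl with rfl | rfl
          · exact Or.inl (by rwa [mul_one])
          · exact Or.inr ⟨r, hr, rfl⟩
      · rcases hc with rfl | rfl | rfl
        · exact Or.inl (Or.inr (Or.inl rfl))
        · exact Or.inl (Or.inr (Or.inr (Or.inl rfl)))
        · exact Or.inr (Or.inl hVV)
    · set ξ : Bool := decide (IsConjV A v (a * x)) with hξ
      set P₁ : S ⧸ NS := if ξ then X else X * V with hP₁
      have hav : ¬ IsConjV A v (a * v) := hF.not_both h ha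
      have hnboth : IsConjV A v (a * x) → ¬ IsConjV A v (a * (x * v)) := fun h1 h2 => by
        have hF' := hF.change (Or.inl (mem_zpowers x)) (h1.sq hF.v_sq)
        rw [← mul_assoc] at h2
        exact hF'.not_both h h1 h2
      refine ⟨P₁, Aq * V, ⟨eV, ?_, ?_, ?_⟩, fun u huS huv hu => ?_, fun c hc => ?_⟩
      · intro h1
        rw [hP₁] at h1
        split_ifs at h1
        · exact eXV (by rw [hcomm]; exact cancel _ _ h1)
        · exact eX (by rw [eq_comm, mul_eq_right] at h1; exact h1)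
      · intro h1; exact eA (by rw [eq_comm, mul_eq_right] at h1; exact h1)
      · intro h1
        rw [hP₁] at h1
        split_ifs at h1
        · rw [← mul_assoc, eq_comm, mul_eq_right, hcomm] at h1; exact eAX h1
        · refine eAXV ?_
          calc Aq * X * V = X * Aq * V := by rw [hcomm Aq X]
            _ = (X * V) * (Aq * V) * V := by
              rw [mul_assoc X V, ← mul_assoc V Aq V, hcomm V Aq, mul_assoc Aq V V, hVV, mul_one,
                mul_assoc]
            _ = V * V := by rw [← h1]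
            _ = 1 := hVV
      · rcases hpos u huS huv hu with h1 | ⟨r, hr, l, hr01, hl, hcl, h1⟩ <;> rw [h1] <;>
          simp only [Set.mem_insert_iff, Set.mem_singleton_iff, hP₁]
        · rintro (h2 | h2 | h2 | h2)
          · exact eV h2
          · split_ifs at h2
            · exact eXV (by rw [hcomm]; exact cancel _ _ h2)
            · exact eX (by rw [eq_comm, mul_eq_right] at h2; exact h2)
          · exact eA (by rw [eq_comm, mul_eq_right] at h2; exact h2)
          · split_ifs at h2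
            · rw [← mul_assoc, eq_comm, mul_eq_right, hcomm] at h2; exact eAX h2
            · refine eAXV ?_
              calc Aq * X * V = X * Aq * V := by rw [hcomm Aq X]
                _ = (X * V) * (Aq * V) * V := by
                  rw [mul_assoc X V, ← mul_assoc V Aq V, hcomm V Aq, mul_assoc Aq V V, hVV,
                    mul_one, mul_assoc]
                _ = V * V := by rw [← h2]
                _ = 1 := hVV
        · rcases hr01 with hre | hre <;> rcases hl with hle | hle <;> rw [hre, hle] at hcl ⊢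
          · -- `a`
            simp only [if_true, mul_one]
            rintro (h2 | h2 | h2 | h2)
            · exact eA h2
            · split_ifs at h2
              · exact eAX (cancel _ _ h2)
              · exact eAXV (by rw [mul_assoc]; exact cancel _ _ h2)
            · exact eV (by rw [eq_comm, mul_eq_left] at h2; exact h2)
            · split_ifs at h2
              · refine eXV ?_
                rw [hcomm X (Aq * V), mul_assoc, eq_comm, mul_eq_left, hcomm] at h2
                exact h2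
              · refine eX ?_
                rw [hcomm (X * V) (Aq * V), mul_assoc, eq_comm, mul_eq_left, ← mul_assoc,
                  hcomm V X, mul_assoc, hVV, mul_one] at h2
                exact h2
          · exact absurd (by simpa using hcl) hav
          · -- `a * x`
            have h0 : IsConjV A v (a * x) := by simpa using hcl
            simp only [hξ, decide_eq_true h0, if_true, if_neg hxne1, mul_one]
            rintro (h2 | h2 | h2 | h2)
            · exact eAX h2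
            · exact eA (by rw [mul_eq_right] at h2; exact h2)
            · exact eXV (cancel _ _ (mul_left_cancel h2))
            · refine eV ?_
              rw [hcomm X (Aq * V)] at h2
              rw [mul_assoc] at h2
              have h3 := mul_left_cancel h2
              rw [eq_comm, mul_eq_right] at h3
              exact h3
          · -- `a * (x * v)`
            have h0 : ¬ IsConjV A v (a * x) := fun h2 => hnboth h2 hcl
            simp only [hξ, decide_eq_false h0, Bool.false_eq_true, if_false, if_neg hxne1,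
              if_neg hvne1]
            rintro (h2 | h2 | h2 | h2)
            · exact eAXV (by rw [mul_assoc]; exact h2)
            · exact eA (by rw [mul_eq_right] at h2; exact h2)
            · exact eX (by
                have h3 := mul_left_cancel h2
                rw [mul_eq_right] at h3; exact h3)
            · refine eV ?_
              rw [hcomm (_ * _) (Aq * _), mul_assoc] at h2
              have h3 := mul_left_cancel h2
              rw [eq_comm, mul_eq_right] at h3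
              exact h3
      · rcases hc with rfl | rfl | rfl
        · by_cases hb : ξ
          · exact Or.inl (Or.inr (Or.inl (by rw [hP₁, if_pos hb])))
          · exact Or.inr (Or.inr (Or.inl (by rw [hP₁, if_neg hb])))
        · exact Or.inr (Or.inr (Or.inr (Or.inl rfl)))
        · exact Or.inr (Or.inl hVV)
  set P : Set (S ⧸ NS) := {1, P₁, Q₁, P₁ * Q₁} with hPdef
  have hmulP : ∀ p ∈ P, ∀ q ∈ P, p * q ∈ P := by
    have e1 := hexp P₁
    have e2 := hexp Q₁
    have e3 := hexp (P₁ * Q₁)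
    have e4 : Q₁ * P₁ = P₁ * Q₁ := hcomm _ _
    have e5 : P₁ * (P₁ * Q₁) = Q₁ := by rw [← mul_assoc, e1, one_mul]
    have e6 : (P₁ * Q₁) * Q₁ = P₁ := by rw [mul_assoc, e2, mul_one]
    have e7 : (P₁ * Q₁) * P₁ = Q₁ := by rw [hcomm]; exact e5
    have e8 : Q₁ * (P₁ * Q₁) = P₁ := by rw [hcomm]; exact e6
    simp only [hPdef, Set.mem_insert_iff, Set.mem_singleton_iff]
    rintro p (rfl | rfl | rfl | rfl) q (rfl | rfl | rfl | rfl) <;>
      simp [e1, e2, e3, e4, e5, e6, e7, e8]
  let PQ : Subgroup (S ⧸ NS) :=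
    { carrier := P
      one_mem' := Or.inl rfl
      mul_mem' := fun hp hq => hmulP _ hp _ hq
      inv_mem' := fun {p} hp => by rwa [inv_eq_of_mul_eq_one_right (hexp p)] }
  have hVnot : V ∉ PQ := by
    show V ∉ P
    simp only [hPdef, Set.mem_insert_iff, Set.mem_singleton_iff]
    obtain ⟨e1, e2, e3, e4⟩ := hP₁
    tauto
  have hcover : ∀ q : S ⧸ NS, q ∈ PQ ∨ q * V ∈ PQ := by
    have hmul : ∀ p q : S ⧸ NS, (p ∈ PQ ∨ p * V ∈ PQ) → (q ∈ PQ ∨ q * V ∈ PQ) →
        (p * q ∈ PQ ∨ p * q * V ∈ PQ) := by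
      rintro p q (hp | hp) (hq | hq)
      · exact Or.inl (mul_mem hp hq)
      · exact Or.inr (by rw [mul_assoc]; exact mul_mem hp hq)
      · exact Or.inr (by rw [mul_assoc, hcomm q V, ← mul_assoc]; exact mul_mem hp hq)
      · refine Or.inl ?_
        have h1 := mul_mem hp hq
        rwa [mul_assoc, hcomm q V, ← mul_assoc V, hexp V, one_mul] at h1
    have hzp : ∀ c ∈ zpowers x, ∀ hc : c ∈ S, π ⟨c, hc⟩ ∈ PQ ∨ π ⟨c, hc⟩ * V ∈ PQ := by
      intro c hc hcS
      obtain ⟨j, hj⟩ := mem_zpowers_iff.1 hc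
      rcases Int.even_or_odd' j with ⟨k, rfl | rfl⟩
      · have h1 : π ⟨c, hcS⟩ = 1 := by
          rw [hker]; show c ∈ N
          rw [← hj, zpow_mul, zpow_two]; exact zpow_mem (mem_zpowers _) k
        exact Or.inl (h1 ▸ one_mem _)
      · have h1 : π ⟨c, hcS⟩ = X := by
          have h2 : (⟨c, hcS⟩ : S) = ⟨x, hF.x_mem⟩ ^ (2 * k + 1) := Subtype.ext (by
            simp [hj])
          rw [h2, map_zpow, ← hX, zpow_add, zpow_mul, zpow_two, hexp, one_zpow, one_mul, zpow_one]
        rw [h1]; exact hgen X (Or.inl rfl)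
    intro q
    obtain ⟨⟨s, hs⟩, rfl⟩ := QuotientGroup.mk'_surjective NS q
    obtain ⟨c, hc, rfl | rfl | rfl | rfl⟩ := hF.decomp s hs
    · exact hzp s hc hs
    · have h1 : (⟨c * v, hs⟩ : S) = ⟨c, hF.cx_le hc⟩ * ⟨v, hF.v_mem⟩ := rfl
      rw [h1, map_mul]; exact hmul _ _ (hzp c hc _) (hgen V (Or.inr (Or.inr rfl)))
    · have h1 : (⟨a * c, hs⟩ : S) = ⟨a, hF.a_mem⟩ * ⟨c, hF.cx_le hc⟩ := rfl
      rw [h1, map_mul]; exact hmul _ _ (hgen Aq (Or.inr (Or.inl rfl))) (hzp c hc _)
    · have h1 : (⟨a * (c * v), hs⟩ : S) = ⟨a, hF.a_mem⟩ * (⟨c, hF.cx_le hc⟩ * ⟨v, hF.v_mem⟩) :=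
        rfl
      rw [h1, map_mul, map_mul]
      exact hmul _ _ (hgen Aq (Or.inr (Or.inl rfl)))
        (hmul _ _ (hzp c hc _) (hgen V (Or.inr (Or.inr rfl))))
  let M : Subgroup G := (PQ.comap π).map S.subtype
  have hMmem : ∀ s, ∀ hs : s ∈ S, (s ∈ M ↔ π ⟨s, hs⟩ ∈ PQ) := fun s hs =>
    ⟨fun ⟨w, hw, hws⟩ => by
      have : w = ⟨s, hs⟩ := Subtype.ext hws
      exact this ▸ hw, fun h1 => ⟨⟨s, hs⟩, h1, rfl⟩⟩
  have hMS : M ≤ S := map_subtype_le _
  have hvne : v ≠ 1 := fun h1 => hF.v_notMem (h1 ▸ one_mem _)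
  obtain ⟨b, hb, hbM⟩ := h.exists_conj_mem (M := M) (s₀ := v) hMS hF.v_mem
    (fun s hs => by
      rw [hMmem _ (mul_mem hs hF.v_mem), hMmem s hs]
      have h1 : π ⟨s * v, mul_mem hs hF.v_mem⟩ = π ⟨s, hs⟩ * V := by
        rw [hV, ← map_mul]; rfl
      rw [h1]
      rcases hcover (π ⟨s, hs⟩) with h2 | h2
      · exact Or.inr ⟨h2, fun h3 => hVnot (by
          have h4 := mul_mem (inv_mem h2) h3
          rwa [inv_mul_cancel_left] at h4)⟩
      · exact Or.inl ⟨h2, fun h3 => hVnot (by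
          have h4 := mul_mem (inv_mem h3) h2
          rwa [inv_mul_cancel_left] at h4)⟩)
    le_rfl (fun s _ hsM => by
      have : orderOf s ≠ 1 := fun h1 => hsM ((orderOf_eq_one_iff.1 h1) ▸ one_mem _)
      have := orderOf_pos s
      simp only [Nat.sub_self, pow_zero]
      omega) hF.v_mem.1 (x := v) (by
        rw [pow_one]; exact orderOf_eq_prime (by rw [sq]; exact hF.v_sq) hvne)
  exact hnot _ (hMS hbM) ⟨b, hb, rfl⟩ (hMS hbM) ((hMmem _ (hMS hbM)).1 hbM)

/-- The endgame. -/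
theorem Frame.false (hF : Frame A T y v x a i) (h : Setting A T t y) : False := by
  haveI : Fact (Nat.Prime 2) := ⟨Nat.prime_two⟩
  by_cases hex : ∃ d, (d ∈ zpowers x ∨ ∃ c ∈ zpowers x, d = c * v) ∧ IsConjV A v (a * d)
  · obtain ⟨d, hd, hud⟩ := hex
    exact Frame.false_aux (hF.change hd (hud.sq hF.v_sq)) h (Or.inr hud)
  · exact Frame.false_aux hF h (Or.inl hex)

end CfsgLib.CyclicFour
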