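import Cfsg.Agent.CyclicFour.CaseOne

/-!
The endgame for a normal four-group `⟨y * y, v⟩`: the group `A ⊓ T` is `⟨x⟩⟨a, v⟩` with `a` inverting
an element `i` of order four of `⟨x⟩`.
-/

set_option autoImplicit false

open Subgroup

namespace CfsgLib.CyclicFour

open CfsgLib.RankOneFour

variable {G : Type*} [Group G] [Finite G]

/-- A square root of `z` in a cyclic 2-group is `i` or `i⁻¹`. -/
theorem eq_or_eq_inv_of_sq {g z i d : G} (hz : z ∈ zpowers g) (hzo : orderOf z = 2)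
    (hi : i ∈ zpowers g) (hii : i * i = z) (hd : d ∈ zpowers g) (hdd : d * d = z) :
    d = i ∨ d = i⁻¹ := by
  have hzz : z * z = 1 := by rw [← sq, ← hzo, pow_orderOf_eq_one]
  have hcomm : Commute i⁻¹ d := by
    obtain ⟨p, hp⟩ := mem_zpowers_iff.1 hd
    obtain ⟨q, hq⟩ := mem_zpowers_iff.1 hi
    rw [← hp, ← hq]
    exact (Commute.zpow_zpow_self g q p).inv_left
  have h1 : d * i⁻¹ * (d * i⁻¹) = 1 := by
    rw [hcomm.mul_mul_mul_comm, hdd, ← _root_.mul_inv_rev, hii, mul_inv_cancel]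
  rcases eq_of_involution hz hzo (mul_mem hd (inv_mem hi)) h1 with h2 | h2
  · exact Or.inl (mul_inv_eq_one.1 h2)
  · refine Or.inr (eq_inv_of_mul_eq_one_left ?_)
    rw [mul_inv_eq_iff_eq_mul.1 h2, mul_assoc, hii, hzz]

/-- The shape of `A ⊓ T` in the endgame. -/
structure Frame (A T : Subgroup G) (y v x a i : G) : Prop where
  v_mem : v ∈ A ⊓ T
  v_sq : v * v = 1
  v_notMem : v ∉ zpowers x
  v_conj : ∀ p ∈ T, p * v * p⁻¹ = v ∨ p * v * p⁻¹ = y * y * v
  z_central : ∀ p ∈ T, p * (y * y) = y * y * p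
  x_mem : x ∈ A ⊓ T
  xv : x * v = v * x
  i_mem : i ∈ zpowers x
  i_sq : i * i = y * y
  y_eq : y = i * v ∨ y = i⁻¹ * v
  a_mem : a ∈ A ⊓ T
  a_notMem : a ∉ zpowers x
  av_notMem : a * v ∉ zpowers x
  a_norm : ∀ c ∈ zpowers x, a * c * a⁻¹ ∈ zpowers x
  a_inv : a * i * a⁻¹ = i⁻¹
  a_sq : a * a = 1 ∨ a * a = y * y
  decomp : ∀ s ∈ A ⊓ T, ∃ c ∈ zpowers x, s = c ∨ s = c * v ∨ s = a * c ∨ s = a * (c * v)

variable {A T : Subgroup G} {t y v x a i : G}

theorem Frame.comm_cx (hF : Frame A T y v x a i) {c d : G} (hc : c ∈ zpowers x)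
    (hd : d ∈ zpowers x) : Commute c d := by
  have := hF.x_mem
  obtain ⟨p, hp⟩ := mem_zpowers_iff.1 hc
  obtain ⟨q, hq⟩ := mem_zpowers_iff.1 hd
  rw [← hp, ← hq]
  exact Commute.zpow_zpow_self x p q

theorem Frame.comm_v (hF : Frame A T y v x a i) {c : G} (hc : c ∈ zpowers x) : Commute c v := by
  obtain ⟨p, hp⟩ := mem_zpowers_iff.1 hc
  rw [← hp]
  exact (show Commute x v from hF.xv).zpow_left p

theorem Frame.cx_le (hF : Frame A T y v x a i) : zpowers x ≤ A ⊓ T := zpowers_le.2 hF.x_mem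

theorem Frame.z_mem (hF : Frame A T y v x a i) : y * y ∈ zpowers x :=
  hF.i_sq ▸ mul_mem hF.i_mem hF.i_mem

/-- The change to another involution of the coset. -/
theorem Frame.change (hF : Frame A T y v x a i) {d : G}
    (hd : d ∈ zpowers x ∨ ∃ c ∈ zpowers x, d = c * v) (hu : a * d * (a * d) = 1) :
    Frame A T y v x (a * d) i := by
  have hdS : d ∈ A ⊓ T := by
    rcases hd with hd | ⟨c, hc, rfl⟩
    · exact hF.cx_le hd
    · exact mul_mem (hF.cx_le hc) hF.v_mem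
  have hdc : ∀ c ∈ zpowers x, d * c * d⁻¹ = c := by
    intro c hc
    have hcd : Commute d c := by
      rcases hd with hd | ⟨e, he, rfl⟩
      · exact hF.comm_cx hd hc
      · exact (hF.comm_cx he hc).mul_left (hF.comm_v hc).symm
    rw [hcd.eq, mul_inv_cancel_right]
  have hform : ∀ w, (w = d ∨ w = d * v) → w ∈ zpowers x ∨ w * v ∈ zpowers x := by
    rintro w (rfl | rfl)
    · rcases hd with hd | ⟨c, hc, rfl⟩
      · exact Or.inl hd
      · exact Or.inr (by rwa [mul_assoc, hF.v_sq, mul_one])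
    · rcases hd with hd | ⟨c, hc, rfl⟩
      · exact Or.inr (by rwa [mul_assoc, hF.v_sq, mul_one])
      · exact Or.inl (by rwa [mul_assoc, hF.v_sq, mul_one])
  have hnot : ∀ w, (w = d ∨ w = d * v) → a * w ∉ zpowers x := by
    intro w hw h1
    rcases hform w hw with h2 | h2
    · exact hF.a_notMem (by simpa using mul_mem h1 (inv_mem h2))
    · refine hF.av_notMem ?_
      have h3 := mul_mem h1 (inv_mem h2)
      have hdv : Commute d v := by
        rcases hd with hd | ⟨c, hc, rfl⟩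
        · exact hF.comm_v hd
        · exact (hF.comm_v hc).mul_left (Commute.refl v)
      have hwv : Commute w v := by
        rcases hw with rfl | rfl
        · exact hdv
        · exact hdv.mul_left (Commute.refl v)
      have h4 : a * w * (w * v)⁻¹ = a * v := by
        rw [hwv.eq, _root_.mul_inv_rev, inv_eq_of_mul_eq_one_right hF.v_sq]
        group
      rwa [h4] at h3
  refine ⟨hF.v_mem, hF.v_sq, hF.v_notMem, hF.v_conj, hF.z_central, hF.x_mem, hF.xv, hF.i_mem,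
    hF.i_sq, hF.y_eq, mul_mem hF.a_mem hdS, hnot d (Or.inl rfl), ?_, fun c hc => ?_, ?_, Or.inl hu,
    fun s hs => ?_⟩
  · rw [mul_assoc]; exact hnot _ (Or.inr rfl)
  · have h1 : a * d * c * (a * d)⁻¹ = a * (d * c * d⁻¹) * a⁻¹ := by group
    rw [h1, hdc c hc]; exact hF.a_norm c hc
  · have h1 : a * d * i * (a * d)⁻¹ = a * (d * i * d⁻¹) * a⁻¹ := by group
    rw [h1, hdc i hF.i_mem, hF.a_inv]
  · obtain ⟨c, hc, h1 | h1 | h1 | h1⟩ := hF.decomp s hs
    · exact ⟨c, hc, Or.inl h1⟩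
    · exact ⟨c, hc, Or.inr (Or.inl h1)⟩
    · rcases hd with hd | ⟨e, he, rfl⟩
      · exact ⟨d⁻¹ * c, mul_mem (inv_mem hd) hc, Or.inr (Or.inr (Or.inl (by rw [h1]; group)))⟩
      · refine ⟨e⁻¹ * c, mul_mem (inv_mem he) hc, Or.inr (Or.inr (Or.inr ?_))⟩
        rw [h1, mul_assoc e⁻¹ c v, (hF.comm_v hc).eq,
          mul_assoc a (e * v), mul_assoc e v, ← mul_assoc v e⁻¹, ← ((hF.comm_v (inv_mem he))).eq,
          mul_assoc e⁻¹ v, ← mul_assoc v v, hF.v_sq, one_mul, ← mul_assoc e e⁻¹, mul_inv_cancel,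
          one_mul]
    · rcases hd with hd | ⟨e, he, rfl⟩
      · exact ⟨d⁻¹ * c, mul_mem (inv_mem hd) hc, Or.inr (Or.inr (Or.inr (by rw [h1]; group)))⟩
      · refine ⟨e⁻¹ * c, mul_mem (inv_mem he) hc, Or.inr (Or.inr (Or.inl ?_))⟩
        rw [h1, mul_assoc a (e * v), mul_assoc e v, ← mul_assoc v e⁻¹,
          ← ((hF.comm_v (inv_mem he))).eq, mul_assoc e⁻¹ v, ← (hF.comm_v hc).eq,
          ← mul_assoc e e⁻¹, mul_inv_cancel, one_mul]

end CfsgLib.CyclicFour
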