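import Cfsg.Agent.RankOneFour.Conj
import Cfsg.Agent.RankOneFour.Structure
import Cfsg.Agent.Inv53.TransferTwo

/-!
The common setting and fusion tools for an involution `t` acting on a group `A` without subgroups of
index two so that `C_A(t)` has a cyclic Sylow 2-subgroup of order four.
-/

set_option autoImplicit false

open Subgroup

namespace CfsgLib.CyclicFour

open CfsgLib.RankOneFour

variable {G : Type*} [Group G] [Finite G]

/-- A 2-subgroup `T` of `A⟨t⟩` of largest order containing `t` and the element `y` of order four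
of `C_A(t)`. -/
structure Setting (A T : Subgroup G) (t y : G) : Prop where
  perf : ∀ H : Subgroup A, H.index ≠ 2
  t_sq : t * t = 1
  t_notMem : t ∉ A
  t_norm : t ∈ normalizer (A : Set G)
  y_mem : y ∈ A ⊓ T
  y_comm : t * y = y * t
  y_four : orderOf y = 4
  t_mem : t ∈ T
  le_sup : T ≤ A ⊔ zpowers t
  two_group : IsPGroup 2 T
  max : ∀ P : Subgroup G, IsPGroup 2 P → P ≤ A ⊔ zpowers t → Nat.card P ≤ Nat.card T
  fixed : ∀ x ∈ A ⊓ T, t * x = x * t → x ∈ zpowers y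
  unique : ∀ f ∈ A, ∀ f' ∈ A, f * f = 1 → f' * f' = 1 → f ≠ 1 → f' ≠ 1 → f * f' = f' * f →
    t * f = f * t → t * f' = f' * t → f = f'

theorem pow_four_of_orderOf {y : G} (h : orderOf y = 4) :
    orderOf (y * y) = 2 ∧ y * y * (y * y) = 1 ∧ y * y ≠ 1 := by
  have h1 : orderOf (y * y) = 2 := by
    rw [← sq, orderOf_pow, h]; decide
  refine ⟨h1, ?_, fun h2 => ?_⟩
  · rw [← sq, ← h1, pow_orderOf_eq_one]
  · rw [h2, orderOf_one] at h1; norm_num at h1

variable {A T : Subgroup G} {t y : G}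

theorem Setting.t_inv (h : Setting A T t y) : t⁻¹ = t := inv_eq_of_mul_eq_one_right h.t_sq

/-- The decomposition `T = S ∪ S t`. -/
theorem Setting.decomp (h : Setting A T t y) {x : G} (hx : x ∈ T) :
    x ∈ A ⊓ T ∨ ∃ s ∈ A ⊓ T, x = s * t := by
  have hU : zpowers t ≤ normalizer (A : Set G) := zpowers_le.2 h.t_norm
  have h1 : x ∈ (A ⊔ zpowers t : Subgroup G) := h.le_sup hx
  rw [← SetLike.mem_coe, coe_mul_of_right_le_normalizer_left A _ hU] at h1
  obtain ⟨s, hs, u, hu, rfl⟩ := h1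
  obtain ⟨k, rfl⟩ := mem_zpowers_iff.1 hu
  have hsT : s ∈ T := by
    have := mul_mem hx (inv_mem (zpow_mem h.t_mem k))
    simpa using this
  rcases Int.even_or_odd' k with ⟨j, rfl | rfl⟩
  · refine Or.inl ?_
    show s * t ^ (2 * j) ∈ A ⊓ T
    rw [zpow_mul, zpow_two, h.t_sq, one_zpow, mul_one]
    exact ⟨hs, hsT⟩
  · refine Or.inr ⟨s, ⟨hs, hsT⟩, ?_⟩
    show s * t ^ (2 * j + 1) = s * t
    rw [zpow_add, zpow_mul, zpow_two, h.t_sq, one_zpow, one_mul, zpow_one]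

theorem Setting.le_normalizer (h : Setting A T t y) : A ⊔ zpowers t ≤ normalizer (A : Set G) :=
  sup_le Subgroup.le_normalizer (zpowers_le.2 h.t_norm)

theorem Setting.conj_mem (h : Setting A T t y) {x s : G} (hx : x ∈ T) (hs : s ∈ A ⊓ T) :
    x * s * x⁻¹ ∈ A ⊓ T :=
  ⟨((mem_normalizer_iff.1 (h.le_normalizer (h.le_sup hx))) s).1 hs.1,
    T.mul_mem (T.mul_mem hx hs.2) (T.inv_mem hx)⟩

/-- `A ⊓ T` is a 2-subgroup of largest order in `A`. -/
theorem Setting.max_inf (h : Setting A T t y) :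
    ∀ P : Subgroup G, IsPGroup 2 P → P ≤ A → Nat.card P ≤ Nat.card (A ⊓ T : Subgroup G) := by
  haveI : Fact (Nat.Prime 2) := ⟨Nat.prime_two⟩
  intro P hP hPA
  obtain ⟨k, hk, hkP⟩ := exists_conj_into h.two_group h.le_sup h.max hP (hPA.trans le_sup_left)
  rw [← card_map_of_injective (K := P) (f := (MulAut.conj k).toMonoidHom) (MulAut.conj k).injective]
  refine card_le_of_le ?_
  rintro _ ⟨x, hx, rfl⟩
  exact ⟨((mem_normalizer_iff.1 (h.le_normalizer hk)) x).1 (hPA hx), hkP x hx⟩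

/-- Transfer: an element `x` of order `2 ^ n` has a conjugate in `M`. -/
theorem Setting.exists_conj_mem (h : Setting A T t y) {M : Subgroup G} {s₀ : G}
    (hMS : M ≤ A ⊓ T) (hs₀ : s₀ ∈ A ⊓ T)
    (hM : ∀ s ∈ A ⊓ T, Xor (s * s₀ ∈ M) (s ∈ M)) {n : ℕ} (hn : 1 ≤ n)
    (hord : ∀ s ∈ A ⊓ T, s ∉ M → 2 ^ (n - 1) < orderOf s)
    {x : G} (hxA : x ∈ A) (hxn : orderOf x = 2 ^ n) :
    ∃ b ∈ A, b * x * b⁻¹ ∈ M := by
  haveI : Fact (Nat.Prime 2) := ⟨Nat.prime_two⟩
  by_contra hno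
  push Not at hno
  obtain ⟨Q, hQ⟩ := ((h.two_group.to_le (inf_le_right : A ⊓ T ≤ T)).comap_subtype (K := A)).exists_le_sylow
  have hQe : (A ⊓ T).subgroupOf A = (Q : Subgroup A) := by
    refine eq_of_le_of_card_ge hQ ?_
    rw [Nat.card_congr (subgroupOfEquivOfLe (inf_le_left : A ⊓ T ≤ A)).toEquiv,
      ← card_map_of_injective (K := (Q : Subgroup A)) A.subtype_injective]
    exact h.max_inf _ (Q.2.map A.subtype) (map_subtype_le _)
  have hrel : (M.subgroupOf A).relIndex (Q : Subgroup A) = 2 := by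
    rw [← hQe, relIndex_subgroupOf (inf_le_left : A ⊓ T ≤ A)]
    show (M.subgroupOf (A ⊓ T)).index = 2
    rw [index_eq_two_iff]
    refine ⟨⟨s₀, hs₀⟩, fun b => ?_⟩
    simpa [mem_subgroupOf] using hM b b.2
  obtain ⟨H, -, hH2, -⟩ := CfsgLib.Inv53.exists_index_two_notMem Q (M.subgroupOf A)
    (hQe ▸ fun s hs => hMS hs) hrel hn
    (fun s hs hsM => by
      rw [← hQe] at hs
      rw [← Subgroup.orderOf_coe]
      exact hord s hs hsM)
    (x := ⟨x, hxA⟩) (by rw [← Subgroup.orderOf_coe]; exact hxn)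
    (fun g hg => hno g g.2 (by simpa [mem_subgroupOf] using hg))
  exact h.perf H hH2

omit [Finite G] in
theorem isPGroup_zpowers {x : G} {T : Subgroup G} (hT : IsPGroup 2 T) (hx : x ∈ T) (b : G) :
    IsPGroup 2 (zpowers (b * x * b⁻¹)) := by
  have h1 := (hT.to_le (zpowers_le.2 hx)).map (MulAut.conj b).toMonoidHom
  rw [MonoidHom.map_zpowers] at h1
  exact h1

/-- If `z` is the only involution which is a square in `T`, an involution of `T` commuting with a
square root of `z` is not conjugate to `z`. -/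
theorem not_conj_of_sqrt {K : Subgroup G} (hT : IsPGroup 2 T) (hTK : T ≤ K)
    (hmax : ∀ P : Subgroup G, IsPGroup 2 P → P ≤ K → Nat.card P ≤ Nat.card T)
    {z : G} (hzc : ∀ x ∈ T, x * z = z * x)
    (hsq : ∀ x ∈ T, x * x * (x * x) = 1 → x * x ≠ 1 → x * x = z)
    (hzz : z * z = 1) (hz1 : z ≠ 1)
    {e w : G} (hw : w ∈ T) (hwe : w * e = e * w) (hw2 : w * w = z) (hez : e ≠ z)
    {b : G} (hb : b ∈ K) : b * e * b⁻¹ ≠ z := by
  haveI : Fact (Nat.Prime 2) := ⟨Nat.prime_two⟩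
  intro hbe
  have hTK' : T ≤ K ⊓ centralizer ({z} : Set G) := fun x hx =>
    ⟨hTK hx, mem_centralizer_singleton_iff.2 (hzc x hx)⟩
  have hcom : b * w * b⁻¹ * z = z * (b * w * b⁻¹) := by
    rw [← hbe, conj_mul, conj_mul, hwe]
  obtain ⟨k, hk, hkP⟩ := exists_conj_into hT hTK'
    (fun P hP hPK => hmax P hP (hPK.trans inf_le_left))
    (isPGroup_zpowers hT hw b)
    (zpowers_le.2 ⟨K.mul_mem (K.mul_mem hb (hTK hw)) (K.inv_mem hb),
      mem_centralizer_singleton_iff.2 hcom⟩)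
  have hkz : k * z * k⁻¹ = z :=
    mul_inv_eq_iff_eq_mul.2 (mem_centralizer_singleton_iff.1 hk.2)
  set w' := k * (b * w * b⁻¹) * k⁻¹ with hw'
  have hw'T : w' ∈ T := hkP _ (mem_zpowers _)
  have e1 : w' * w' = k * b * z * (k * b)⁻¹ := by rw [hw', ← hw2]; group
  have e2 : k * b * e * (k * b)⁻¹ = z := by
    calc k * b * e * (k * b)⁻¹ = k * (b * e * b⁻¹) * k⁻¹ := by group
      _ = z := by rw [hbe, hkz]
  have h2 : w' * w' * (w' * w') = 1 := by
    rw [e1, conj_mul, hzz, mul_one, mul_inv_cancel]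
  have h3 : w' * w' ≠ 1 := by
    rw [e1]
    exact fun h4 => hz1 (conj_eq_one_iff.1 h4)
  have h5 := hsq w' hw'T h2 h3
  exact hez ((MulAut.conj (k * b)).injective
    (show k * b * e * (k * b)⁻¹ = k * b * z * (k * b)⁻¹ from e2.trans (h5.symm.trans e1)))

/-- The end of the cases with a cyclic subgroup of index two of `A ⊓ T`. -/
theorem Setting.false_of_cyclic (h : Setting A T t y) {g z e w : G} (hg : g ∈ A ⊓ T)
    (hz : z ∈ zpowers g) (hzo : orderOf z = 2) (hzc : ∀ x ∈ T, x * z = z * x)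
    (hprod : ∀ a ∈ A ⊓ T, ∀ b ∈ A ⊓ T, a ∉ zpowers g → b ∉ zpowers g → a * b ∈ zpowers g)
    (hsq : ∀ x ∈ T, x * x ∈ zpowers g)
    (he : e ∈ A ⊓ T) (hee : e * e = 1) (heg : e ∉ zpowers g)
    (hw : w ∈ T) (hwe : w * e = e * w) (hw2 : w * w = z) : False := by
  haveI : Fact (Nat.Prime 2) := ⟨Nat.prime_two⟩
  have he1 : e ≠ 1 := fun h1 => heg (h1 ▸ one_mem _)
  have heo : orderOf e = 2 ^ 1 := by
    rw [pow_one]; exact orderOf_eq_prime (by rw [sq]; exact hee) he1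
  obtain ⟨b, hb, hbM⟩ := h.exists_conj_mem (M := zpowers g) (s₀ := e) (zpowers_le.2 hg) he
    (fun s hs => by
      by_cases hsg : s ∈ zpowers g
      · refine Or.inr ⟨hsg, fun h1 => heg ?_⟩
        simpa using mul_mem (inv_mem hsg) h1
      · exact Or.inl ⟨hprod s hs e he hsg heg, hsg⟩)
    le_rfl (fun s _ hsM => by
      have : orderOf s ≠ 1 := fun h1 => hsM ((orderOf_eq_one_iff.1 h1) ▸ one_mem _)
      have := orderOf_pos s
      simp only [Nat.sub_self, pow_zero]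
      omega) he.1 heo
  have hzz : z * z = 1 := by rw [← sq, ← hzo, pow_orderOf_eq_one]
  have hz1 : z ≠ 1 := fun h1 => by rw [h1, orderOf_one] at hzo; norm_num at hzo
  have hbe : b * e * b⁻¹ = z := (eq_of_involution hz hzo hbM (by
    rw [conj_mul, hee, mul_one, mul_inv_cancel])).resolve_left (fun h1 => he1 (conj_eq_one_iff.1 h1))
  exact not_conj_of_sqrt h.two_group h.le_sup h.max hzc
    (fun x hx h1 h2 => (eq_of_involution hz hzo (hsq x hx) h1).resolve_left h2)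
    hzz hz1 hw hwe hw2 (fun h1 => heg (h1 ▸ hz)) (mem_sup_left hb) hbe

end CfsgLib.CyclicFour
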